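import Cfsg.Agent.Lib.Spor.MonsterType.Seven.Cross

/-!
# Classes modulo two fixed by a permutation of odd prime order with eight orbits

A table describes the fixed sublattice (basis and dual probes) and, for every class outside a given
list, a vector of norm less than 64 in the class. Then the classes of norm 64 are those of the list.
-/

set_option autoImplicit false

namespace CfsgLib.Spor.MonsterType.Fix

open Subgroup CfsgLib.Spor CfsgLib.Spor.Leech
open CfsgLib.Spor.MonsterType.Seven (Cong congTest cong_of_test single_inj mono_eight mem_crossStab_of_cong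
  cong_of_mem_crossStab)
open Cfsg (leechLattice Co0 sqNorm GolayPt M24 dotInt supports golayCode)

/-- The vector packed in five digits per point, shifted by sixteen. -/
def vecPack (c : ℕ) (q : GolayPt) : ℤ := (permFn c (ptIdx q) : ℤ) - 16

/-- The bits of a number. -/
def bits (n : ℕ) (j : Fin 8) : ℤ := if n.testBit j then 1 else 0

/-- The data of a table. -/
structure Cfg where
  /-- The order. -/
  p : ℕ
  /-- The permutation. -/
  code : ℕ
  /-- The orbit of every index. -/
  grp : List ℕ
  /-- An index of every orbit. -/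
  orbRep : List ℕ
  /-- The denominator of the coefficients. -/
  den : ℤ
  /-- A basis of the fixed sublattice. -/
  basis : List ℕ
  /-- Dual vectors. -/
  probe : List ℕ
  /-- The indicators of the orbits in the basis. -/
  coef : List (List ℤ)
  /-- Halves of the differences to representatives of norm less than 64. -/
  short : List ℕ
  /-- The classes of norm 64. -/
  orb : List ℕ

namespace Cfg

variable (T : Cfg)

/-- A basis vector. -/
def bas (j : Fin 8) : GolayPt → ℤ := vecPack (T.basis.getD j 0)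

/-- A probe. -/
def prb (j : Fin 8) : GolayPt → ℤ := vecPack (T.probe.getD j 0)

/-- The orbit of a point. -/
def grpOf (q : GolayPt) : Fin 8 := ⟨T.grp.getD (ptIdx q) 0 % 8, Nat.mod_lt _ (by norm_num)⟩

/-- The chosen point of an orbit. -/
def repOf (g : Fin 8) : GolayPt := idxPt (T.orbRep.getD g 0)

/-- The combination of the basis. -/
def lin (k : Fin 8 → ℤ) (q : GolayPt) : ℤ :=
  k 0 * T.bas 0 q + (k 1 * T.bas 1 q + (k 2 * T.bas 2 q + (k 3 * T.bas 3 q + (k 4 * T.bas 4 q +
    (k 5 * T.bas 5 q + (k 6 * T.bas 6 q + k 7 * T.bas 7 q))))))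

/-- The representative of a class, as a vector. -/
def vecRep (n : ℕ) : GolayPt → ℤ := T.lin (bits n)

/-- The conditions checked on a table. -/
structure OK : Prop where
  prime : T.p.Prime
  odd : T.p % 2 = 1
  code_ok : isM24Code T.code = true
  pow : powCode T.code T.p = idPacked
  moves : ∃ q, fnPt T.code q ≠ q
  fixed : ∀ j q, T.bas j (fnPt T.code q) = T.bas j q
  bas_mem : ∀ j, leechTest (T.bas j) = true
  prb_mem : ∀ j, leechTest (T.prb j) = true
  dual : ∀ i j, dotInt (T.bas i) (T.prb j) = if i = j then 8 else 0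
  cover : ∀ q, ∃ k : Fin T.p, (fnPt T.code)^[(k : ℕ)] (T.repOf (T.grpOf q)) = q
  den_ne : T.den ≠ 0
  span : ∀ (g : Fin 8) q, T.den * (if T.grpOf q = g then 1 else 0) =
    T.lin (fun j => (T.coef.getD g []).getD j 0) q
  short_len : T.short.length = 256
  classes : ((List.range 256).zip T.short).all (fun t => T.orb.contains t.1 || (leechTest (vecPack t.2) &&
    decide (sqNorm (fun q => T.vecRep t.1 q - 2 * vecPack t.2 q) < 64))) = true
  root : congTest (T.vecRep (T.orb.getD 0 0)) (Pi.single none 8) = true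
  orb_lt : ∀ n ∈ T.orb, n < 256
  orb_ne : T.orb ≠ []

end Cfg

/-- A table with its checks. -/
structure Tab extends Cfg where
  ok : toCfg.OK

noncomputable section

namespace Tab

variable (T : Tab)

theorem code_perm : isPermCode T.code = true := isPermCode_of_isM24Code T.ok.code_ok

/-- The permutation. -/
def sigma : Equiv.Perm GolayPt := permOf T.code

theorem sigma_mem : T.sigma ∈ M24 := permOf_mem_M24 T.ok.code_ok

theorem sigma_apply (q : GolayPt) : T.sigma q = fnPt T.code q := permOf_apply T.code_perm q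

theorem sigma_pow : T.sigma ^ T.p = 1 := by
  rw [sigma, ← (permOf_powCode T.code_perm T.p).1, T.ok.pow, permOf_idPacked]

theorem sigma_ne : T.sigma ≠ 1 := fun h => by
  obtain ⟨q, hq⟩ := T.ok.moves
  exact hq (by rw [← T.sigma_apply, h]; rfl)

/-- The automorphism. -/
def P : Co0 := prmHom ⟨T.sigma, T.sigma_mem⟩

theorem P_pow : T.P ^ T.p = 1 := by
  rw [P, ← map_pow, show (⟨T.sigma, T.sigma_mem⟩ : M24) ^ T.p = 1 from Subtype.ext T.sigma_pow, map_one]

theorem P_apply (v : leechLattice) (q : GolayPt) :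
    ((T.P • v : leechLattice) : GolayPt → ℤ) (fnPt T.code q) = (v : GolayPt → ℤ) q := by
  rw [← T.sigma_apply, show T.P = prmAut T.sigma_mem from rfl, prmAut_smul, Equiv.symm_apply_apply]

theorem P_fixed_iff (v : leechLattice) :
    T.P • v = v ↔ ∀ q, (v : GolayPt → ℤ) (fnPt T.code q) = (v : GolayPt → ℤ) q := by
  refine ⟨fun h q => by conv_lhs => rw [← h, T.P_apply], fun h => Subtype.ext (funext fun q => ?_)⟩
  obtain ⟨r, rfl⟩ := T.sigma.surjective q
  rw [T.sigma_apply, T.P_apply, h]

theorem lin_add (k l : Fin 8 → ℤ) : T.lin (k + l) = T.lin k + T.lin l := by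
  funext q
  simp only [Cfg.lin, Pi.add_apply]
  ring

theorem lin_mem (k : Fin 8 → ℤ) : T.lin k ∈ leechLattice := by
  have h := fun j => zsmul_mem (leechTest_spec (T.ok.bas_mem j)) (k j)
  have e : T.lin k = k 0 • T.bas 0 + (k 1 • T.bas 1 + (k 2 • T.bas 2 + (k 3 • T.bas 3 + (k 4 • T.bas 4 +
      (k 5 • T.bas 5 + (k 6 • T.bas 6 + k 7 • T.bas 7)))))) := funext fun q => by
    simp only [Cfg.lin, Pi.add_apply, Pi.smul_apply, smul_eq_mul]
  rw [e]
  exact add_mem (h 0) (add_mem (h 1) (add_mem (h 2) (add_mem (h 3) (add_mem (h 4) (add_mem (h 5)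
    (add_mem (h 6) (h 7)))))))

/-- The vector of a combination. -/
def linVec (k : Fin 8 → ℤ) : leechLattice := ⟨_, T.lin_mem k⟩

theorem linVec_add (k l : Fin 8 → ℤ) : T.linVec (k + l) = T.linVec k + T.linVec l :=
  Subtype.ext (by simp only [linVec, AddSubgroup.coe_add, T.lin_add])

theorem linVec_fixed (k : Fin 8 → ℤ) : T.P • T.linVec k = T.linVec k :=
  (T.P_fixed_iff _).2 fun q => by
    show T.lin k (fnPt T.code q) = T.lin k q
    simp only [Cfg.lin, T.ok.fixed]

theorem dot_lin (k : Fin 8 → ℤ) (i : Fin 8) : dotInt (T.lin k) (T.prb i) = 8 * k i := by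
  have e : dotInt (T.lin k) (T.prb i) = ∑ j, k j * dotInt (T.bas j) (T.prb i) := by
    simp only [dotInt, Finset.mul_sum]
    rw [Finset.sum_comm]
    refine Finset.sum_congr rfl fun q _ => ?_
    simp only [Fin.sum_univ_eight, Cfg.lin]
    ring
  rw [e]
  simp only [T.ok.dual, mul_ite, mul_zero, Finset.sum_ite_eq', Finset.mem_univ, if_true]
  ring

/-- The coordinates of a vector against the probes. -/
def coord (v : GolayPt → ℤ) (i : Fin 8) : ℤ := dotInt v (T.prb i) / 8

theorem coord_lin (k : Fin 8 → ℤ) : T.coord (T.lin k) = k := funext fun i => by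
  rw [coord, T.dot_lin]; omega

theorem linVec_inj {k l : Fin 8 → ℤ} (h : T.linVec k = T.linVec l) : k = l := by
  rw [← T.coord_lin k, show T.lin k = T.lin l from congrArg Subtype.val h, T.coord_lin]

theorem fixed_const {v : leechLattice} (hv : T.P • v = v) (q : GolayPt) :
    (v : GolayPt → ℤ) q = (v : GolayPt → ℤ) (T.repOf (T.grpOf q)) := by
  have hiter : ∀ (k : ℕ) (r : GolayPt), (v : GolayPt → ℤ) ((fnPt T.code)^[k] r) = (v : GolayPt → ℤ) r := by
    intro k
    induction k with
    | zero => intro r; rfl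
    | succ k ih =>
      intro r
      rw [Function.iterate_succ_apply', (T.P_fixed_iff v).1 hv, ih]
  obtain ⟨k, hk⟩ := T.ok.cover q
  conv_lhs => rw [← hk, hiter]

/-- A fixed vector is the combination of its coordinates. -/
theorem eq_linVec {v : leechLattice} (hv : T.P • v = v) : v = T.linVec (T.coord v) := by
  set m : Fin 8 → ℤ := fun j => ∑ g : Fin 8, (v : GolayPt → ℤ) (T.repOf g) * (T.coef.getD g []).getD j 0 with hm
  have hden : ∀ q, T.den * (v : GolayPt → ℤ) q = T.lin m q := by
    intro q
    calc T.den * (v : GolayPt → ℤ) q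
        = ∑ g : Fin 8, (v : GolayPt → ℤ) (T.repOf g) * (T.den * (if T.grpOf q = g then 1 else 0)) := by
          simp only [mul_ite, mul_one, mul_zero, Finset.sum_ite_eq, Finset.mem_univ, if_true]
          rw [T.fixed_const hv q, mul_comm]
      _ = ∑ g : Fin 8, (v : GolayPt → ℤ) (T.repOf g) * T.lin (fun j => (T.coef.getD g []).getD j 0) q := by
          simp only [T.ok.span]
      _ = T.lin m q := by
          simp only [Cfg.lin, hm, mul_add, Finset.sum_add_distrib, Finset.sum_mul, ← mul_assoc]
  have hk : ∀ i, m i = T.den * T.coord v i := by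
    intro i
    obtain ⟨c, hc⟩ := dot_dvd v.2 (leechTest_spec (T.ok.prb_mem i))
    have e : dotInt (T.lin m) (T.prb i) = T.den * dotInt (v : GolayPt → ℤ) (T.prb i) := by
      simp only [dotInt, Finset.mul_sum, ← hden, mul_assoc]
    rw [T.dot_lin, hc] at e
    rw [coord, hc, Int.mul_ediv_cancel_left c (by norm_num : (8 : ℤ) ≠ 0)]
    linarith
  refine Subtype.ext (funext fun q => mul_left_cancel₀ T.ok.den_ne ?_)
  rw [hden]
  show T.lin m q = T.den * T.lin (T.coord v) q
  simp only [Cfg.lin, hk]
  ring

/-- The representative of a class. -/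
def rep (n : ℕ) : leechLattice := T.linVec (bits n)

theorem rep_fixed (n : ℕ) : T.P • T.rep n = T.rep n := T.linVec_fixed _

theorem exists_class {v : leechLattice} (hv : T.P • v = v) : ∃ n < 256, Cong (T.rep n) v := by
  set k := T.coord v with hk
  refine ⟨Nat.ofBits (fun j : Fin 8 => decide (k j % 2 = 1)), Nat.ofBits_lt_two_pow _,
    T.linVec (fun j => k j / 2), ?_⟩
  rw [T.eq_linVec hv, ← hk, rep, ← T.linVec_add, ← T.linVec_add]
  refine congrArg T.linVec (funext fun j => ?_)
  simp only [Pi.add_apply, bits, Nat.testBit_ofBits_lt _ _ j.2, Fin.eta, decide_eq_true_eq]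
  split_ifs <;> omega

theorem P_zsmul_two {v : leechLattice} (h : T.P • (v + v) = v + v) : T.P • v = v := by
  refine Subtype.ext (funext fun q => ?_)
  have := congrFun (congrArg Subtype.val (((co0_add T.P v v).symm.trans h))) q
  simp only [AddSubgroup.coe_add, Pi.add_apply] at this
  omega

theorem rep_inj {n m : ℕ} (hn : n < 256) (hm : m < 256) (h : Cong (T.rep n) (T.rep m)) : n = m := by
  obtain ⟨u, hu⟩ := h
  have hu2 : u + u = T.rep m - T.rep n := by rw [hu]; abel
  have hfix : T.P • u = u := T.P_zsmul_two (by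
    rw [hu2, sub_eq_add_neg, co0_add, co0_neg, T.rep_fixed, T.rep_fixed])
  rw [T.eq_linVec hfix, rep, rep, ← T.linVec_add, ← T.linVec_add] at hu
  have hb := T.linVec_inj hu
  refine Nat.eq_of_testBit_eq fun i => ?_
  by_cases hi : i < 8
  · have := congrFun hb ⟨i, hi⟩
    simp only [Pi.add_apply, bits] at this
    cases hn' : n.testBit i <;> cases hm' : m.testBit i <;> simp [hn', hm'] at this ⊢ <;> omega
  · have h256 : (256 : ℕ) ≤ 2 ^ i :=
      (show (256 : ℕ) = 2 ^ 8 by norm_num).le.trans (Nat.pow_le_pow_right (by norm_num) (by omega))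
    rw [Nat.testBit_lt_two_pow (by omega), Nat.testBit_lt_two_pow (by omega)]

/-- A class fixed modulo two contains a fixed vector. -/
theorem exists_rep {v : leechLattice} (h : Cong v (T.P • v)) : ∃ n < 256, Cong v (T.rep n) := by
  have hk : ∀ k : ℕ, Cong v (T.P ^ k • v) := by
    intro k
    induction k with
    | zero => rw [pow_zero, one_smul]; exact Cong.refl v
    | succ k ih => rw [pow_succ', mul_smul]; exact h.trans (ih.smul T.P)
  have hsum : ∀ k : ℕ, Cong ((k : ℤ) • v) (∑ i ∈ Finset.range k, T.P ^ i • v) := by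
    intro k
    induction k with
    | zero => simp only [Nat.cast_zero, zero_smul, Finset.range_zero, Finset.sum_empty]; exact Cong.refl _
    | succ k ih =>
      rw [Finset.sum_range_succ, Nat.cast_succ, add_smul, one_smul]
      exact ih.add (hk k)
  set s := ∑ i ∈ Finset.range T.p, T.P ^ i • v with hs
  have hfix : T.P • s = s := by
    have hsm : T.P • s = ∑ i ∈ Finset.range T.p, T.P ^ (i + 1) • v := by
      rw [hs, show T.P • (∑ i ∈ Finset.range T.p, T.P ^ i • v) = ∑ i ∈ Finset.range T.p, T.P • (T.P ^ i • v) from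
        map_sum (AddMonoidHom.mk' (fun w : leechLattice => T.P • w) (co0_add T.P)) _ _]
      exact Finset.sum_congr rfl fun i _ => by rw [pow_succ', mul_smul]
    have h1 := Finset.sum_range_succ (fun i => T.P ^ i • v) T.p
    rw [Finset.sum_range_succ', T.P_pow, pow_zero, ← hs, ← hsm] at h1
    exact add_right_cancel h1
  have hp : Cong v ((T.p : ℤ) • v) := ⟨((T.p / 2 : ℕ) : ℤ) • v, by
    have e : (T.p : ℤ) = 1 + (((T.p / 2 : ℕ) : ℤ) + ((T.p / 2 : ℕ) : ℤ)) := by
      have := T.ok.odd; omega
    rw [← add_smul]; conv_lhs => rw [e, add_smul, one_smul]⟩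
  obtain ⟨n, hn, hnc⟩ := T.exists_class hfix
  exact ⟨n, hn, (hp.trans (hsum T.p)).trans hnc.symm⟩

theorem rep_root : Cong (T.rep (T.orb.getD 0 0)) (eight none) :=
  cong_of_test (by
    show congTest (T.vecRep (T.orb.getD 0 0)) _ = true
    exact T.ok.root)

theorem root_lt : T.orb.getD 0 0 < 256 := by
  obtain ⟨a, l, e⟩ := List.exists_cons_of_ne_nil T.ok.orb_ne
  rw [e, List.getD_cons_zero]
  exact T.ok.orb_lt a (e ▸ List.mem_cons_self)

/-- A class with a vector of norm 64 is in the list. -/
theorem mem_orb {n : ℕ} (hn : n < 256) {w : leechLattice} (hw : sqNorm (w : GolayPt → ℤ) = 64)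
    (h : Cong (T.rep n) w) : n ∈ T.orb := by
  have hlen := T.ok.short_len
  have hc := List.all_eq_true.1 T.ok.classes (n, T.short[n]'(by omega))
    (List.mem_iff_getElem.2 ⟨n, by simp [hlen, hn], by simp⟩)
  simp only [Bool.or_eq_true, Bool.and_eq_true, decide_eq_true_eq, List.contains_iff_mem] at hc
  rcases hc with hc | ⟨h1, h2⟩
  · exact hc
  · exfalso
    set v : leechLattice := ⟨_, leechTest_spec h1⟩ with hv
    set u : leechLattice := T.rep n - (v + v) with hu
    have e : (u : GolayPt → ℤ) = fun q => T.vecRep n q - 2 * vecPack (T.short[n]'(by omega)) q := funext fun q => by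
      simp only [hu, hv, AddSubgroup.coe_sub, AddSubgroup.coe_add, Pi.sub_apply, Pi.add_apply, two_mul]
      rfl
    have hc : Cong u w := Cong.trans ⟨v, by rw [hu]; abel⟩ h
    have h2' : sqNorm (u : GolayPt → ℤ) < 64 := by rw [e]; exact h2
    have := hc.norm_eq h2'.le (le_of_eq hw)
    omega

/-- The centralizer. -/
def C0 : Subgroup Co0 := centralizer {T.P}

theorem mem_C0 {x : Co0} : x ∈ T.C0 ↔ x * T.P = T.P * x := mem_centralizer_singleton_iff

theorem P_mem : T.P ∈ T.C0 := T.mem_C0.2 rfl

theorem negAut_mem : negAut ∈ T.C0 := T.mem_C0.2 (mem_center_iff.1 negAut_central T.P).symm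

theorem fixed_smul {x : Co0} (hx : x ∈ T.C0) {v : leechLattice} (hv : T.P • v = v) : T.P • (x • v) = x • v := by
  rw [← mul_smul, ← T.mem_C0.1 hx, mul_smul, hv]

/-- The image of the standard class. -/
theorem exists_orb {x : Co0} (hx : x ∈ T.C0) : ∃ n ∈ T.orb, Cong (T.rep n) (x • eight none) := by
  obtain ⟨n, hn, hc⟩ := T.exists_class (T.fixed_smul hx (T.rep_fixed (T.orb.getD 0 0)))
  have hc' := hc.trans (T.rep_root.smul x)
  exact ⟨n, T.mem_orb hn (by rw [co0_norm]; exact sqNorm_eight none) hc', hc'⟩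

end Tab

end

end CfsgLib.Spor.MonsterType.Fix
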