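import Cfsg.Agent.Lib.Spor.MonsterType.Fix.Gens

/-!
# The centralizer as a permutation group on blocks of classes
-/

set_option autoImplicit false

namespace CfsgLib.Spor.MonsterType.Fix

open Subgroup CfsgLib.Spor CfsgLib.Spor.Leech
open CfsgLib.Spor.MonsterType.Seven (Cong congTest cong_of_test mem_crossStab_of_cong cong_of_mem_crossStab)
open Cfsg (leechLattice Co0 sqNorm GolayPt M24 dotInt)

/-- The action of the generators on the coordinates and on the long classes. -/
structure MoveCfg where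
  /-- The matrices on the coordinates. -/
  K : List (List (List ℤ))
  /-- The images of the positions. -/
  tab : List (List ℕ)
  /-- A generator and an earlier position for every position. -/
  par : List (ℕ × ℕ)

noncomputable section

/-- The number of an operation. -/
def opIdx (S : Sys) : S.Op → ℕ
  | .inl i => i
  | .inr (.inl j) => S.ops.pgens.length + j
  | .inr (.inr _) => S.ops.pgens.length + S.ops.masks.length

/-- An entry of a matrix. -/
def MoveCfg.entry (M : MoveCfg) (o : ℕ) (i k : Fin 8) : ℤ := (((M.K.getD o []).getD i []).getD k 0)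

/-- An image of a position. -/
def MoveCfg.img (M : MoveCfg) (o r : ℕ) : ℕ := (M.tab.getD o []).getD r 0

/-- The image of the coordinates of a class. -/
def MoveCfg.row (M : MoveCfg) (o n : ℕ) (k : Fin 8) : ℤ :=
  bits n 0 * M.entry o 0 k + (bits n 1 * M.entry o 1 k + (bits n 2 * M.entry o 2 k + (bits n 3 * M.entry o 3 k +
    (bits n 4 * M.entry o 4 k + (bits n 5 * M.entry o 5 k + (bits n 6 * M.entry o 6 k + bits n 7 * M.entry o 7 k))))))

/-- The checks of the action. -/
structure MoveOK (S : Sys) (M : MoveCfg) : Prop where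
  K_ok : ∀ (o : S.Op) (i k : Fin 8), dotInt (S.act o (S.bas i)) (S.prb k) = 8 * M.entry (opIdx S o) i k
  tab_ok : ∀ (o : S.Op) (r : Fin S.orb.length), M.img (opIdx S o) r < S.orb.length ∧
    ∀ k : Fin 8, (M.row (opIdx S o) (S.orb.getD r 0) k - bits (S.orb.getD (M.img (opIdx S o) r) 0) k) % 2 = 0
  par_ok : ∀ r : Fin S.orb.length, (r : ℕ) = 0 ∨ ∃ o : S.Op, opIdx S o = (M.par.getD r (0, 0)).2 ∧
    ((M.par.getD r (0, 0)).1 < r ∧ M.img (opIdx S o) (M.par.getD r (0, 0)).1 = r)
  orb_nodup : S.orb.Nodup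

/-- A system with the action checked. -/
structure Moved extends Sys where
  /-- The action. -/
  mv : MoveCfg
  mvOK : MoveOK toSys mv

namespace Moved

variable (S : Moved)

/-- The number of long classes. -/
abbrev N : ℕ := S.orb.length

/-- The long class at a position. -/
def cls (r : Fin S.N) : ℕ := S.orb.getD r 0

theorem cls_mem (r : Fin S.N) : S.cls r ∈ S.orb := by
  rw [cls, List.getD_eq_getElem _ _ r.2]; exact List.getElem_mem _

theorem cls_lt (r : Fin S.N) : S.cls r < 256 := S.ok.orb_lt _ (S.cls_mem r)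

theorem cls_inj {r r' : Fin S.N} (h : S.cls r = S.cls r') : r = r' := by
  rw [cls, cls, List.getD_eq_getElem _ _ r.2, List.getD_eq_getElem _ _ r'.2] at h
  exact Fin.ext (S.mvOK.orb_nodup.getElem_inj_iff.1 h)

theorem exists_cls {n : ℕ} (h : n ∈ S.orb) : ∃ r : Fin S.N, S.cls r = n := by
  obtain ⟨i, hi, e⟩ := List.getElem_of_mem h
  exact ⟨⟨i, hi⟩, by rw [cls, List.getD_eq_getElem _ _ hi]; exact e⟩

/-- The position of the standard class. -/
def root : Fin S.N := ⟨0, List.length_pos_of_ne_nil S.ok.orb_ne⟩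

theorem rep_root' : Cong (S.rep (S.cls S.root)) (eight none) := S.rep_root

theorem dot_gen (o : S.Op) (k : Fin 8 → ℤ) (i : Fin 8) :
    dotInt ((S.gen o • S.linVec k : leechLattice) : GolayPt → ℤ) (S.prb i) =
      8 * ∑ j, k j * S.mv.entry (opIdx S.toSys o) j i := by
  let f : (Fin 8 → ℤ) →+ ℤ := AddMonoidHom.mk'
    (fun k => dotInt ((S.gen o • S.linVec k : leechLattice) : GolayPt → ℤ) (S.prb i)) fun k l => by
      rw [S.linVec_add, co0_add, AddSubgroup.coe_add]
      simp only [dotInt, Pi.add_apply, add_mul, Finset.sum_add_distrib]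
  have hsingle : ∀ j, f (Pi.single j 1) = 8 * S.mv.entry (opIdx S.toSys o) j i := fun j => by
    show dotInt ((S.gen o • S.linVec (Pi.single j 1) : leechLattice) : GolayPt → ℤ) (S.prb i) = _
    rw [S.gen_smul, ← S.mvOK.K_ok o j i]
    congr 2
    funext q
    show S.lin (Pi.single j 1) q = S.bas j q
    fin_cases j <;> simp [Cfg.lin]
  have hk : k = ∑ j, k j • Pi.single j (1 : ℤ) := funext fun q => by
    simp [Finset.sum_apply, Pi.single_apply]
  show f k = _
  conv_lhs => rw [hk]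
  rw [map_sum, Finset.mul_sum]
  refine Finset.sum_congr rfl fun j _ => ?_
  rw [map_zsmul, hsingle, smul_eq_mul]
  ring

/-- The image of a long class under a generator. -/
theorem gen_cls (o : S.Op) (r : Fin S.N) :
    ∃ h : S.mv.img (opIdx S.toSys o) r < S.N, Cong (S.rep (S.cls ⟨_, h⟩)) (S.gen o • S.rep (S.cls r)) := by
  obtain ⟨hlt, hp⟩ := S.mvOK.tab_ok o r
  refine ⟨hlt, ?_⟩
  have hfix := S.fixed_smul (S.gen_mem o) (S.rep_fixed (S.cls r))
  have hc : ∀ k, S.coord ((S.gen o • S.rep (S.cls r) : leechLattice) : GolayPt → ℤ) k =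
      S.mv.row (opIdx S.toSys o) (S.cls r) k := fun k => by
    rw [Tab.coord, Tab.rep, S.dot_gen, Int.mul_ediv_cancel_left _ (by norm_num : (8 : ℤ) ≠ 0), Fin.sum_univ_eight,
      MoveCfg.row]
    ring
  refine ⟨S.linVec (fun k => (S.coord ((S.gen o • S.rep (S.cls r) : leechLattice) : GolayPt → ℤ) k -
    bits (S.cls ⟨_, hlt⟩) k) / 2), ?_⟩
  conv_lhs => rw [S.eq_linVec hfix]
  simp only [Tab.rep]
  rw [← S.linVec_add, ← S.linVec_add]
  refine congrArg S.linVec (funext fun k => ?_)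
  have := hp k
  have h' := hc k
  simp only [Tab.rep, cls, Pi.add_apply] at h' ⊢
  omega

theorem exists_word (r : Fin S.N) : ∃ w ∈ S.H, Cong (S.rep (S.cls r)) (w • eight none) := by
  obtain ⟨i, hi⟩ := r
  induction i using Nat.strong_induction_on with
  | _ i ih =>
    rcases S.mvOK.par_ok ⟨i, hi⟩ with h | ⟨o, -, hlt, himg⟩
    · refine ⟨1, one_mem _, ?_⟩
      rw [one_smul, show (⟨i, hi⟩ : Fin S.N) = S.root from Fin.ext h]
      exact S.rep_root'
    · obtain ⟨w, hw, hc⟩ := ih _ hlt (hlt.trans hi)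
      refine ⟨S.gen o * w, mul_mem (S.gen_mem_H o) hw, ?_⟩
      obtain ⟨h, hg⟩ := S.gen_cls o ⟨_, hlt.trans hi⟩
      rw [show (⟨_, h⟩ : Fin S.N) = ⟨i, hi⟩ from Fin.ext himg] at hg
      rw [mul_smul]
      exact hg.trans (hc.smul _)

theorem H_le : S.H ≤ S.C0 := (closure_le _).2 (by rintro _ ⟨o, rfl⟩; exact S.gen_mem o)

/-- The chosen word of a position. -/
def word (r : Fin S.N) : Co0 := (S.exists_word r).choose

theorem word_spec (r : Fin S.N) : S.word r ∈ S.H ∧ Cong (S.rep (S.cls r)) (S.word r • eight none) :=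
  (S.exists_word r).choose_spec

theorem exists_pos {x : Co0} (hx : x ∈ S.C0) (r : Fin S.N) :
    ∃ r', Cong (S.rep (S.cls r')) (x • S.rep (S.cls r)) := by
  obtain ⟨hw, hc⟩ := S.word_spec r
  obtain ⟨n, hn, hn'⟩ := S.exists_orb (mul_mem hx (S.H_le hw))
  obtain ⟨r', rfl⟩ := S.exists_cls hn
  exact ⟨r', hn'.trans (by rw [mul_smul]; exact (hc.symm.smul x))⟩

theorem split {x : Co0} (hx : x ∈ S.C0) :
    ∃ r, ∃ s ∈ S.C0 ⊓ crossStab, x = S.word r * s := by
  obtain ⟨n, hn, hc⟩ := S.exists_orb hx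
  obtain ⟨r, rfl⟩ := S.exists_cls hn
  obtain ⟨hw, hcw⟩ := S.word_spec r
  refine ⟨r, (S.word r)⁻¹ * x, ⟨S.C0.mul_mem (S.C0.inv_mem (S.H_le hw)) hx, ?_⟩, (mul_inv_cancel_left _ _).symm⟩
  refine mem_crossStab_of_cong ?_
  have h := (hcw.symm.trans hc).smul (S.word r)⁻¹
  rwa [inv_smul_smul, ← mul_smul] at h

theorem C0_eq : S.C0 = S.H := by
  refine le_antisymm (fun x hx => ?_) S.H_le
  obtain ⟨r, s, hs, rfl⟩ := S.split hx
  exact mul_mem (S.word_spec r).1 (S.stab_le hs)

theorem card_C0 : Nat.card S.C0 ≤ S.N * (S.ops.masks.length * (S.ops.trans.length * S.ops.stab.length)) := by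
  classical
  have h : ∀ x : S.C0, ∃ t : Fin S.N × ↥(S.C0 ⊓ crossStab), (x : Co0) = S.word t.1 * t.2 := fun x => by
    obtain ⟨r, s, hs, e⟩ := S.split x.2
    exact ⟨(r, ⟨s, hs⟩), e⟩
  choose t ht using h
  refine (Nat.card_le_card_of_injective t fun a b hab => Subtype.ext (by rw [ht, ht, hab])).trans ?_
  rw [Nat.card_prod, Nat.card_eq_fintype_card, Fintype.card_fin]
  exact Nat.mul_le_mul_left _ S.card_stab

/-- The position of the image. -/
def pos (x : S.C0) (r : Fin S.N) : Fin S.N := (S.exists_pos x.2 r).choose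

theorem pos_spec (x : S.C0) (r : Fin S.N) : Cong (S.rep (S.cls (S.pos x r))) ((x : Co0) • S.rep (S.cls r)) :=
  (S.exists_pos x.2 r).choose_spec

theorem pos_unique {x : S.C0} {r r' : Fin S.N} (h : Cong (S.rep (S.cls r')) ((x : Co0) • S.rep (S.cls r))) :
    S.pos x r = r' :=
  S.cls_inj (S.rep_inj (S.cls_lt _) (S.cls_lt _) ((S.pos_spec x r).trans h.symm))

theorem pos_mul (x y : S.C0) (r : Fin S.N) : S.pos (x * y) r = S.pos x (S.pos y r) :=
  S.pos_unique (by rw [coe_mul, mul_smul]; exact (S.pos_spec x _).trans ((S.pos_spec y r).smul _))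

theorem pos_one (r : Fin S.N) : S.pos 1 r = r :=
  S.pos_unique (by rw [OneMemClass.coe_one, one_smul]; exact Cong.refl _)

theorem pos_P (r : Fin S.N) : S.pos ⟨S.P, S.P_mem⟩ r = r :=
  S.pos_unique (by show Cong _ (S.P • _); rw [S.rep_fixed]; exact Cong.refl _)

theorem pos_negAut (r : Fin S.N) : S.pos ⟨negAut, S.negAut_mem⟩ r = r :=
  S.pos_unique (by show Cong _ (negAut • _); rw [negAut_smul]; exact Cong.neg _)

theorem pos_gen (o : S.Op) (r : Fin S.N) :
    ((S.pos ⟨S.gen o, S.gen_mem o⟩ r : Fin S.N) : ℕ) = S.mv.img (opIdx S.toSys o) r := by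
  obtain ⟨h, hg⟩ := S.gen_cls o r
  exact congrArg Fin.val (S.pos_unique (x := ⟨S.gen o, S.gen_mem o⟩) hg)

variable {B : Type} (inc : B → ℕ → Bool)

/-- An element carries the blocks by a permutation. -/
def Carries (x : S.C0) (β : Equiv.Perm B) : Prop := ∀ b (r : Fin S.N), inc (β b) (S.pos x r) = inc b r

variable {inc}

theorem Carries.one : S.Carries inc 1 1 := fun b r => by rw [S.pos_one]; rfl

theorem Carries.mul {x y : S.C0} {β γ : Equiv.Perm B} (h : S.Carries inc x β) (h' : S.Carries inc y γ) :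
    S.Carries inc (x * y) (β * γ) := fun b r => by
  rw [S.pos_mul, Equiv.Perm.mul_apply, h, h']

theorem Carries.inv {x : S.C0} {β : Equiv.Perm B} (h : S.Carries inc x β) : S.Carries inc x⁻¹ β⁻¹ := fun b r => by
  rw [← h (β⁻¹ b) (S.pos x⁻¹ r), ← S.pos_mul, mul_inv_cancel, S.pos_one, Equiv.Perm.inv_def,
    Equiv.apply_symm_apply]

theorem Carries.unique (hinc : ∀ b c, (∀ r : Fin S.N, inc b r = inc c r) → b = c) {x : S.C0}
    {β γ : Equiv.Perm B} (h : S.Carries inc x β) (h' : S.Carries inc x γ) : β = γ :=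
  Equiv.ext fun b => hinc _ _ fun r => by
    have e : S.pos x (S.pos x⁻¹ r) = r := by rw [← S.pos_mul, mul_inv_cancel, S.pos_one]
    conv_lhs => rw [← e, h]
    conv_rhs => rw [← e, h']

theorem exists_carries {β : S.Op → Equiv.Perm B}
    (hβ : ∀ o b (r : Fin S.N), inc (β o b) (S.mv.img (opIdx S.toSys o) r) = inc b r) (x : S.C0) :
    ∃ γ ∈ closure (Set.range β), S.Carries inc x γ := by
  obtain ⟨x, hx⟩ := x
  have hx' : x ∈ S.H := S.C0_eq ▸ hx
  induction hx' using closure_induction with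
  | mem y hy =>
    obtain ⟨o, rfl⟩ := hy
    exact ⟨β o, subset_closure ⟨o, rfl⟩, fun b r => by rw [S.pos_gen]; exact hβ o b r⟩
  | one => exact ⟨1, one_mem _, Carries.one S⟩
  | mul a b ha hb iha ihb =>
    obtain ⟨γ, hγ, h⟩ := iha (S.H_le ha)
    obtain ⟨δ, hδ, h'⟩ := ihb (S.H_le hb)
    exact ⟨γ * δ, mul_mem hγ hδ, Carries.mul S h h'⟩
  | inv a ha iha =>
    obtain ⟨γ, hγ, h⟩ := iha (S.H_le ha)
    exact ⟨γ⁻¹, inv_mem hγ, Carries.inv S h⟩

end Moved

/-- The blocks and the group induced on them. -/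
structure Blocked extends Moved where
  /-- The blocks. -/
  B : Type
  /-- The incidence. -/
  inc : B → ℕ → Bool
  /-- The images of the generators. -/
  beta : toSys.Op → Equiv.Perm B
  /-- The group induced. -/
  A : Subgroup (Equiv.Perm B)
  beta_ok : ∀ o b (r : Fin toMoved.N), inc (beta o b) (mv.img (opIdx toSys o) r) = inc b r
  inc_inj : ∀ b c, (∀ r : Fin toMoved.N, inc b r = inc c r) → b = c
  beta_gen : closure (Set.range beta) = A
  card_le : toMoved.N * (ops.masks.length * (ops.trans.length * ops.stab.length)) ≤ 2 * toTab.p * Nat.card A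
  finB : Finite B

namespace Blocked

variable (S : Blocked)

/-- The induced permutation. -/
def blockPerm (x : S.C0) : Equiv.Perm S.B := (S.toMoved.exists_carries S.beta_ok x).choose

theorem blockPerm_spec (x : S.C0) : S.blockPerm x ∈ S.A ∧ S.toMoved.Carries S.inc x (S.blockPerm x) := by
  have h := (S.toMoved.exists_carries S.beta_ok x).choose_spec
  exact ⟨S.beta_gen.le h.1, h.2⟩

theorem blockPerm_eq {x : S.C0} {β : Equiv.Perm S.B} (h : S.toMoved.Carries S.inc x β) : S.blockPerm x = β :=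
  Moved.Carries.unique S.toMoved S.inc_inj (S.blockPerm_spec x).2 h

/-- The map onto the group induced on the blocks. -/
def hom : S.C0 →* S.A :=
  MonoidHom.mk' (fun x => ⟨S.blockPerm x, (S.blockPerm_spec x).1⟩) fun x y => Subtype.ext
    (S.blockPerm_eq (Moved.Carries.mul S.toMoved (S.blockPerm_spec x).2 (S.blockPerm_spec y).2))

theorem hom_trivial {x : S.C0} (h : ∀ r, S.toMoved.pos x r = r) : S.hom x = 1 :=
  Subtype.ext (S.blockPerm_eq fun b r => by rw [h]; rfl)

theorem hom_P : S.hom ⟨S.P, S.P_mem⟩ = 1 := S.hom_trivial S.toMoved.pos_P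

theorem hom_negAut : S.hom ⟨negAut, S.negAut_mem⟩ = 1 := S.hom_trivial S.toMoved.pos_negAut

theorem hom_surjective : Function.Surjective S.hom := by
  rintro ⟨a, ha⟩
  have ha' := S.beta_gen.ge ha
  suffices h : ∃ x, S.blockPerm x = a from h.elim fun x hx => ⟨x, Subtype.ext hx⟩
  clear ha
  induction ha' using closure_induction with
  | mem y hy =>
    obtain ⟨o, rfl⟩ := hy
    refine ⟨⟨S.gen o, S.gen_mem o⟩, S.blockPerm_eq fun b r => ?_⟩
    rw [S.toMoved.pos_gen]; exact S.beta_ok o b r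
  | one => exact ⟨1, S.blockPerm_eq (Moved.Carries.one S.toMoved)⟩
  | mul a b _ _ iha ihb =>
    obtain ⟨x, rfl⟩ := iha
    obtain ⟨y, rfl⟩ := ihb
    exact ⟨x * y, S.blockPerm_eq (Moved.Carries.mul S.toMoved (S.blockPerm_spec x).2 (S.blockPerm_spec y).2)⟩
  | inv a _ iha =>
    obtain ⟨x, rfl⟩ := iha
    exact ⟨x⁻¹, S.blockPerm_eq (Moved.Carries.inv S.toMoved (S.blockPerm_spec x).2)⟩

theorem negAut_sq : negAut * negAut = 1 := sgnAut_sq Cfsg.Spor.univ_mem_supports_golayCode

theorem orderOf_P : orderOf S.P = S.p := by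
  haveI : Fact S.p.Prime := ⟨S.ok.prime⟩
  refine orderOf_eq_prime S.P_pow fun h => S.sigma_ne ?_
  have h' : prmHom ⟨S.sigma, S.sigma_mem⟩ = prmHom 1 := by rw [map_one]; exact h
  exact congrArg Subtype.val (prmHom_injective h')

theorem kernel_cases (x : S.C0) (hx : S.hom x = 1) :
    ∃ k : ℕ, (x : Co0) = S.P ^ k ∨ (x : Co0) = negAut * S.P ^ k := by
  classical
  haveI := S.finB
  haveI : Fact S.p.Prime := ⟨S.ok.prime⟩
  let f : Fin S.p × Bool → S.hom.ker := fun t =>
    ⟨(if t.2 then ⟨negAut, S.negAut_mem⟩ else 1) * ⟨S.P, S.P_mem⟩ ^ (t.1 : ℕ), by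
      rw [MonoidHom.mem_ker, map_mul, map_pow, S.hom_P, one_pow, mul_one]
      split_ifs
      · exact S.hom_negAut
      · exact map_one _⟩
  have hval : ∀ t, (((f t : S.hom.ker) : S.C0) : Co0) = (if t.2 then negAut else 1) * S.P ^ (t.1 : ℕ) := fun t => by
    simp only [f, coe_mul, coe_pow]
    split_ifs <;> rfl
  have hne : ∀ a b : ℕ, negAut * S.P ^ a ≠ S.P ^ b := fun a b h => by
    have h' := congrArg (fun g : Co0 => g ^ S.p) h
    rw [(show Commute negAut (S.P ^ a) from (mem_center_iff.1 negAut_central _).symm).mul_pow, ← pow_mul, ← pow_mul,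
      mul_comm a, mul_comm b, pow_mul, pow_mul, S.P_pow, one_pow, one_pow, mul_one] at h'
    obtain ⟨k, hk⟩ : ∃ k, S.p = 2 * k + 1 := ⟨S.p / 2, by have := S.ok.odd; omega⟩
    rw [hk, pow_succ, pow_mul, pow_two, negAut_sq, one_pow, one_mul] at h'
    exact negAut_ne_one h'
  have hfi : Function.Injective f := by
    rintro ⟨a, s⟩ ⟨b, t⟩ e
    have e' : (if s then negAut else 1) * S.P ^ (a : ℕ) = (if t then negAut else 1) * S.P ^ (b : ℕ) := by
      rw [← hval (a, s), ← hval (b, t), e]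
    have hab : ∀ {m n : Fin S.p}, S.P ^ (m : ℕ) = S.P ^ (n : ℕ) → m = n := fun {m n} h => Fin.ext
      (pow_injOn_Iio_orderOf (by rw [S.orderOf_P]; exact m.2) (by rw [S.orderOf_P]; exact n.2) h)
    cases s <;> cases t <;> simp at e' ⊢
    · exact hab e'
    · exact hne _ _ e'.symm
    · exact hne _ _ e'
    · exact hab e'
  have hk := S.hom.ker.card_mul_index
  rw [index_ker, MonoidHom.range_eq_top.2 S.hom_surjective, card_top] at hk
  have hker : Nat.card S.hom.ker ≤ Nat.card (Fin S.p × Bool) := by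
    rw [Nat.card_eq_fintype_card (α := Fin S.p × Bool), Fintype.card_prod, Fintype.card_fin, Fintype.card_bool]
    refine Nat.le_of_mul_le_mul_right ?_ (Nat.card_pos (α := S.A))
    rw [hk, mul_comm S.p 2]
    exact S.toMoved.card_C0.trans S.card_le
  have hbij := (Nat.bijective_iff_injective_and_card f).2
    ⟨hfi, le_antisymm (Nat.card_le_card_of_injective f hfi) hker⟩
  obtain ⟨⟨k, t⟩, hkt⟩ := hbij.2 ⟨x, hx⟩
  have e : (x : Co0) = (if t then negAut else 1) * S.P ^ (k : ℕ) := by rw [← hval (k, t), hkt]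
  refine ⟨k, ?_⟩
  cases t
  · left; simpa using e
  · right; simpa using e

end Blocked

end

end CfsgLib.Spor.MonsterType.Fix
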