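import Cfsg.Agent.Lib.Spor.MonsterType.Fix.Blocks
import Cfsg.Agent.Lib.Spor.MonsterType.Seven.Twist
import Cfsg.Agent.Lib.Spor.MonsterType.Meet

/-!
# The fixed points on `Q` of an element in standard position, and the action of its centralizer
-/

set_option autoImplicit false

namespace CfsgLib.Spor.MonsterType.Fix

open Subgroup CfsgLib.Spor CfsgLib.Spor.Leech
open CfsgLib.Spor.MonsterType.Seven (Cong cong_of_test)
open Cfsg (leechLattice Co0 sqNorm GolayPt)

/-- A set of 2-power size invariant under an element of odd prime order has a fixed point. -/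
theorem exists_fixed_set {G : Type*} [Group G] [Finite G] {p : ℕ} (hp : p.Prime) (hodd : p % 2 = 1) {b : G}
    (hb : b ^ p = 1) (S : Set G) (hS : ∀ x ∈ S, b * x * b⁻¹ ∈ S) {a : ℕ} (hc : S.ncard = 2 ^ a) :
    ∃ x ∈ S, b * x = x * b := by
  classical
  haveI : Fact p.Prime := ⟨hp⟩
  haveI : Fintype S := Fintype.ofFinite S
  let f : S → S := fun x => ⟨b * x * b⁻¹, hS x x.2⟩
  have hf : ∀ (k : ℕ) (x : S), ((f^[k] x : S) : G) = b ^ k * x * (b ^ k)⁻¹ := by
    intro k
    induction k with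
    | zero => intro x; simp
    | succ k ih =>
      intro x
      rw [Function.iterate_succ_apply']
      show b * (f^[k] x : G) * b⁻¹ = _
      rw [ih, pow_succ']
      group
  let e : Function.End S := f
  have he : e ^ p ^ 1 = 1 := funext fun x => Subtype.ext (by
    rw [pow_one, show (e ^ p : Function.End S) = f^[p] from
      hom_coe_pow (fun g : Function.End S => (g : S → S)) rfl (fun _ _ => rfl) e p, hf, hb]
    show 1 * (x : G) * 1⁻¹ = x
    simp)
  have hmod := Equiv.Perm.card_fixedPoints_modEq (p := p) he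
  have hcard : Fintype.card S = 2 ^ a := by rw [← Nat.card_eq_fintype_card, Nat.card_coe_set_eq, hc]
  have hpos : 0 < Fintype.card (Function.fixedPoints e) := by
    by_contra h0
    have h7 : p ∣ 2 ^ a := by
      rw [← hcard]
      exact (Nat.modEq_zero_iff_dvd).1 (by simpa [Nat.eq_zero_of_not_pos h0] using hmod)
    have := (Nat.prime_dvd_prime_iff_eq hp Nat.prime_two).1 (hp.dvd_of_dvd_pow h7)
    omega
  obtain ⟨⟨x, hx⟩⟩ := Fintype.card_pos_iff.1 hpos
  exact ⟨x, x.2, mul_inv_eq_iff_eq_mul.1 (congrArg Subtype.val (show f x = x from hx))⟩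

noncomputable section

variable {S : Blocked} {G : Type*} [Group G] [Finite G] {z : G} {Q : Subgroup G} {R : leechLattice → G → Prop}
  {π : ↥(centralizer ({z} : Set G)) →* Cfsg.Spor.Co1}

/-- An element in standard position. -/
structure Elt (S : Blocked) (D : Data z Q R π) (b : G) : Prop where
  mem : b ∈ centralizer ({z} : Set G)
  ord : orderOf b = S.p
  img : π ⟨b, mem⟩ = QuotientGroup.mk S.P
  weak : ∃ g : G, g * z * g⁻¹ ∈ Q ∧ g * z * g⁻¹ ≠ z

variable {D : Data z Q R π} {b : G}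

/-- The fixed points. -/
def fixed (Q : Subgroup G) (b : G) : Subgroup G := Q ⊓ centralizer ({b} : Set G)

/-- Elements over congruent classes. -/
theorem class_shift {v w : leechLattice} {q : G} (hv : R v q) (hw : R w (q * z)) (D : Data z Q R π) : Cong v w := by
  obtain ⟨r, hr⟩ := D.repr (w - v)
  have h' := D.add hv hr
  rw [add_sub_cancel] at h'
  obtain ⟨u, hu⟩ := (D.ker hr).1 (by
    rcases D.unique hw h' with e | e
    · exact Or.inr (mul_left_cancel e)
    · left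
      rw [mul_assoc q z z, D.zz, mul_one] at e
      exact mul_eq_left.1 e)
  exact ⟨u, by rw [← hu, add_sub_cancel]⟩

/-- A chosen element over a class. -/
def pick (S : Blocked) (D : Data z Q R π) (n : ℕ) : G := (D.repr (S.rep n)).choose

theorem pick_spec (S : Blocked) (D : Data z Q R π) (n : ℕ) : R (S.rep n) (pick S D n) :=
  (D.repr (S.rep n)).choose_spec

/-- The element over a class, possibly times the central involution. -/
def elt (S : Blocked) (D : Data z Q R π) (t : ℕ × Bool) : G := if t.2 then pick S D t.1 * z else pick S D t.1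

/-- The joint centralizer. -/
abbrev D0 (z b : G) : Subgroup G := centralizer ({z} : Set G) ⊓ centralizer ({b} : Set G)

namespace Elt

variable (E : Elt S D b)
include E

theorem bz : b * z = z * b := mem_centralizer_singleton_iff.1 E.mem

theorem powp : b ^ S.p = 1 := E.ord ▸ pow_orderOf_eq_one b

theorem comm_iff {v : leechLattice} {q : G} (hq : R v q) : b * q = q * b ↔ Cong v (S.P • v) := by
  have h := D.conj ⟨b, E.mem⟩ E.img hq
  change R (S.P • v) (b * q * b⁻¹) at h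
  constructor
  · intro e
    rw [e, mul_inv_cancel_right] at h
    exact D.congr_of_fixed hq h
  · rintro ⟨u, hu⟩
    rw [hu] at h
    rcases D.unique_congr hq h with e | e
    · exact mul_inv_eq_iff_eq_mul.1 e
    · exfalso
      have hconj : ∀ k : ℕ, b ^ k * q * (b ^ k)⁻¹ = q * z ^ k := by
        intro k
        induction k with
        | zero => simp
        | succ k ih =>
          calc b ^ (k + 1) * q * (b ^ (k + 1))⁻¹ = b * (b ^ k * q * (b ^ k)⁻¹) * b⁻¹ := by rw [pow_succ']; group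
            _ = (b * q * b⁻¹) * (b * z * b⁻¹) ^ k := by rw [ih, conj_pow]; group
            _ = q * z * z ^ k := by rw [e, E.bz, mul_inv_cancel_right]
            _ = q * z ^ (k + 1) := by rw [pow_succ', mul_assoc]
      have h7 := hconj S.p
      obtain ⟨k, hk⟩ : ∃ k, S.p = 2 * k + 1 := ⟨S.p / 2, by have := S.ok.odd; omega⟩
      rw [E.powp, one_mul, inv_one, mul_one, eq_comm, mul_eq_left, hk, pow_succ, pow_mul, pow_two z, D.zz, one_pow,
        one_mul] at h7
      exact D.z_ne h7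

theorem mem_fixed_iff {v : leechLattice} {q : G} (hq : R v q) : q ∈ fixed Q b ↔ Cong v (S.P • v) := by
  rw [fixed, mem_inf, mem_centralizer_singleton_iff, ← E.comm_iff hq]
  exact ⟨fun h => h.2.symm, fun h => ⟨D.mem hq, h.symm⟩⟩

theorem z_fixed : z ∈ fixed Q b := ⟨D.core.mem, mem_centralizer_singleton_iff.2 E.bz.symm⟩

theorem exists_fixed_rep {q : G} (hq : q ∈ fixed Q b) : ∃ n < 256, R (S.rep n) q ∨ R (S.rep n) (q * z) := by
  obtain ⟨v, -, hv⟩ := D.short q hq.1
  obtain ⟨n, hn, u, hu⟩ := S.exists_rep ((E.mem_fixed_iff hv).1 hq)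
  obtain ⟨r, hr⟩ := D.repr (S.rep n)
  rw [hu] at hr
  refine ⟨n, hn, ?_⟩
  rcases D.unique_congr hv hr with e | e <;> rw [← e, hu]
  · exact Or.inl hr
  · exact Or.inr hr

theorem pick_mem (n : ℕ) : pick S D n ∈ fixed Q b :=
  (E.mem_fixed_iff (pick_spec S D n)).2 (by rw [S.rep_fixed]; exact Cong.refl _)

theorem elt_mem (t : ℕ × Bool) : elt S D t ∈ fixed Q b := by
  rw [elt]; split_ifs
  · exact mul_mem (E.pick_mem _) E.z_fixed
  · exact E.pick_mem _

theorem exists_elt {q : G} (hq : q ∈ fixed Q b) : ∃ t : ℕ × Bool, t.1 < 256 ∧ elt S D t = q := by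
  obtain ⟨n, hn, h | h⟩ := E.exists_fixed_rep hq
  · rcases D.unique (pick_spec S D n) h with e | e
    · exact ⟨(n, false), hn, e.symm⟩
    · exact ⟨(n, true), hn, e.symm⟩
  · rcases D.unique (pick_spec S D n) h with e | e
    · refine ⟨(n, true), hn, ?_⟩
      show pick S D n * z = q
      rw [← e, mul_assoc, D.zz, mul_one]
    · exact ⟨(n, false), hn, (mul_right_cancel e).symm⟩

theorem elt_inj {t t' : ℕ × Bool} (ht : t.1 < 256) (ht' : t'.1 < 256) (e : elt S D t = elt S D t') : t = t' := by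
  have key : pick S D t'.1 = pick S D t.1 ∨ pick S D t'.1 = pick S D t.1 * z := by
    obtain ⟨n, bn⟩ := t
    obtain ⟨m, bm⟩ := t'
    cases bn <;> cases bm <;> simp [elt] at e
    · exact Or.inl e.symm
    · right; rw [e, mul_assoc, D.zz, mul_one]
    · exact Or.inr e.symm
    · exact Or.inl e.symm
  have hn : t.1 = t'.1 := by
    rcases key with e' | e'
    · exact S.rep_inj ht ht' (D.congr_of_fixed (pick_spec S D t.1) (e' ▸ pick_spec S D t'.1))
    · exact S.rep_inj ht ht' (class_shift (pick_spec S D t.1) (e' ▸ pick_spec S D t'.1) D)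
  obtain ⟨n, bn⟩ := t
  obtain ⟨m, bm⟩ := t'
  simp only at hn
  subst hn
  cases bn <;> cases bm <;> simp [elt] at e ⊢
  · exact D.z_ne e
  · exact D.z_ne e

theorem card_fixed : Nat.card (fixed Q b) = 512 := by
  let f : Fin 256 × Bool → fixed Q b := fun t => ⟨elt S D (t.1, t.2), E.elt_mem _⟩
  rw [← Nat.card_congr (Equiv.ofBijective f ⟨?_, ?_⟩)]
  · simp [Nat.card_eq_fintype_card]
  · intro s t h
    have := E.elt_inj (t := ((s.1 : ℕ), s.2)) (t' := ((t.1 : ℕ), t.2)) s.1.2 t.1.2 (congrArg Subtype.val h)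
    simp only [Prod.mk.injEq] at this
    exact Prod.ext (Fin.ext this.1) this.2
  · rintro ⟨q, hq⟩
    obtain ⟨⟨n, c⟩, hn, e⟩ := E.exists_elt hq
    exact ⟨(⟨n, hn⟩, c), Subtype.ext e⟩

/-- The fixed points have centre `⟨z⟩`. -/
theorem fixed_center {c : G} (hc : c ∈ fixed Q b) (h : ∀ r ∈ fixed Q b, r * c = c * r) : c = 1 ∨ c = z := by
  have hA : ∀ a ∈ zpowers b, a * z = z * a := fun a ha => by
    obtain ⟨k, rfl⟩ := mem_zpowers_iff.1 ha
    exact (show Commute b z from E.bz).zpow_left k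
  refine D.core.fixed_central (zpowers b) (by rw [Nat.card_zpowers, E.ord, Nat.odd_iff]; exact S.ok.odd)
    (fun a ha q hq => D.core.norm a (hA a ha) q hq) hA hc.1 (fun a ha => ?_) fun r hr hra => h r ⟨hr, ?_⟩
  · obtain ⟨k, rfl⟩ := mem_zpowers_iff.1 ha
    exact (show Commute b c from (mem_centralizer_singleton_iff.1 hc.2).symm).zpow_left k
  · exact mem_centralizer_singleton_iff.2 (hra b (mem_zpowers b)).symm

/-- A fixed point other than `z`, conjugate to `z` in the centralizer of `b`. -/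
theorem exists_conj_fixed : ∃ q ∈ fixed Q b, q ≠ z ∧ ∃ c : G, c * b = b * c ∧ c * z * c⁻¹ = q := by
  haveI : Fact (Nat.Prime 2) := ⟨Nat.prime_two⟩
  obtain ⟨q, hR⟩ := D.repr (eight none)
  obtain ⟨h1, h2⟩ := D.conj_of_long E.weak hR (sqNorm_eight none)
  have hfix : Cong (eight none) (S.P • eight none) := by
    have h1 := S.rep_root.smul S.P
    rw [S.rep_fixed] at h1
    exact S.rep_root.symm.trans h1
  have hqF : q ∈ fixed Q b := (E.mem_fixed_iff hR).2 hfix
  refine ⟨q, hqF, h2, ?_⟩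
  obtain ⟨hqQ, hqb⟩ := hqF
  have hbq := mem_centralizer_singleton_iff.1 hqb
  obtain ⟨g, hg⟩ := isConj_iff.1 h1
  have hd := D.duo (g := g) (by rw [hg]; exact hqQ) (by rw [hg]; exact h2)
  rw [hg] at hd
  set Q' := Q.map (MulAut.conj g).toMonoidHom with hQ'
  have key : ∀ (H : Subgroup G) (p r : G), (∀ x ∈ H, b * x * b⁻¹ ∈ H) → IsPGroup 2 H → b * p = p * b →
      b * r = r * b → (∃ y ∈ H, y * p * y⁻¹ = r) → ∃ y ∈ H, b * y = y * b ∧ y * p * y⁻¹ = r := by
    intro H p r hH h2 hp hr ⟨y, hy, hyp⟩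
    let T : Set G := {x | x ∈ H ∧ x * p * x⁻¹ = r}
    have hS : ∀ x ∈ T, b * x * b⁻¹ ∈ T := by
      rintro x ⟨hx, hxp⟩
      refine ⟨hH x hx, ?_⟩
      have hp' : b⁻¹ * p * b = p := by rw [mul_assoc, ← hp, inv_mul_cancel_left]
      calc b * x * b⁻¹ * p * (b * x * b⁻¹)⁻¹ = b * (x * (b⁻¹ * p * b) * x⁻¹) * b⁻¹ := by group
        _ = r := by rw [hp', hxp, hr, mul_inv_cancel_right]
    obtain ⟨a, ha⟩ := (h2.to_le (inf_le_left : H ⊓ centralizer ({p} : Set G) ≤ H)).exists_card_eq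
    have hc : T.ncard = 2 ^ a := by
      rw [← ha, ← Nat.card_coe_set_eq]
      refine Nat.card_congr ⟨fun x => ⟨y⁻¹ * x, ⟨H.mul_mem (H.inv_mem hy) x.2.1, mem_centralizer_singleton_iff.2 ?_⟩⟩,
        fun x => ⟨y * x, ⟨H.mul_mem hy x.2.1, ?_⟩⟩, fun x => Subtype.ext (mul_inv_cancel_left y _),
        fun x => Subtype.ext (inv_mul_cancel_left y _)⟩
      · refine mul_inv_eq_iff_eq_mul.1 ?_
        calc y⁻¹ * (x : G) * p * (y⁻¹ * (x : G))⁻¹ = y⁻¹ * ((x : G) * p * (x : G)⁻¹) * y := by group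
          _ = p := by rw [x.2.2, ← hyp]; group
      · calc y * (x : G) * p * (y * (x : G))⁻¹ = y * ((x : G) * p * (x : G)⁻¹) * y⁻¹ := by group
          _ = r := by rw [mul_inv_eq_iff_eq_mul.2 (mem_centralizer_singleton_iff.1 x.2.2), hyp]
    obtain ⟨x, hx, hxb⟩ := exists_fixed_set S.ok.prime S.ok.odd E.powp T hS hc
    exact ⟨x, hx.1, hxb, hx.2⟩
  have hbz := E.bz
  have hbzq : b * (z * q) = z * q * b := by rw [← mul_assoc, hbz, mul_assoc, ← hbq, mul_assoc]
  obtain ⟨y, hy, hyb, hyq⟩ := key Q q (z * q) (fun x hx => D.core.norm b hbz x hx) D.half.two hbq.symm hbzq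
    hd.exists_move
  obtain ⟨y', hy', hy'b, hy'z⟩ := key Q' z (q * z) (fun x hx => hd.right.norm b hbq.symm x hx) hd.right.two hbz
    (by rw [← mul_assoc, ← hbq, mul_assoc, hbz, mul_assoc]) hd.symm.exists_move
  refine ⟨y⁻¹ * y', ?_, ?_⟩
  · calc y⁻¹ * y' * b = y⁻¹ * (b * y') := by rw [mul_assoc, hy'b]
      _ = y⁻¹ * (b * y) * y⁻¹ * y' := by group
      _ = b * (y⁻¹ * y') := by rw [hyb]; group
  · calc y⁻¹ * y' * z * (y⁻¹ * y')⁻¹ = y⁻¹ * (y' * z * y'⁻¹) * y := by group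
      _ = y⁻¹ * (z * q) * y := by rw [hy'z, D.half.cz q hqQ]
      _ = q := by rw [← hyq]; group

theorem lift_congr {x y : S.C0} (h : (QuotientGroup.mk (x : Co0) : Cfsg.Spor.Co1) = QuotientGroup.mk (y : Co0)) :
    S.hom x = S.hom y := by
  have hm : (x : Co0)⁻¹ * (y : Co0) ∈ center Co0 := QuotientGroup.eq.1 h
  rcases mem_center_iff_eq.1 hm with e | e
  · rw [show x = y from Subtype.ext (inv_mul_eq_one.1 e)]
  · rw [show y = x * ⟨negAut, S.negAut_mem⟩ from Subtype.ext (eq_mul_of_inv_mul_eq e), map_mul, S.hom_negAut,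
      mul_one]

theorem mem_C0_of_image {x : Co0}
    (h : (QuotientGroup.mk (x * S.P * x⁻¹) : Cfsg.Spor.Co1) = QuotientGroup.mk S.P) : x ∈ S.C0 := by
  have hm : (x * S.P * x⁻¹)⁻¹ * S.P ∈ center Co0 := QuotientGroup.eq.1 h
  rcases mem_center_iff_eq.1 hm with e | e
  · exact S.mem_C0.2 (mul_inv_eq_iff_eq_mul.1 (inv_mul_eq_one.1 e))
  · exfalso
    have hP : S.P = x * S.P * x⁻¹ * negAut := eq_mul_of_inv_mul_eq e
    have h7 := congrArg (fun g : Co0 => g ^ S.p) hP
    obtain ⟨k, hk⟩ : ∃ k, S.p = 2 * k + 1 := ⟨S.p / 2, by have := S.ok.odd; omega⟩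
    rw [(show Commute (x * S.P * x⁻¹) negAut from mem_center_iff.1 negAut_central _).mul_pow, conj_pow,
      S.P_pow, mul_one, mul_inv_cancel, one_mul, hk, pow_succ, pow_mul, pow_two, Blocked.negAut_sq, one_pow,
      one_mul] at h7
    exact negAut_ne_one h7.symm

theorem exists_lift (c : ↥(D0 z b)) :
    ∃ x : S.C0, (QuotientGroup.mk (x : Co0) : Cfsg.Spor.Co1) = π ⟨c, c.2.1⟩ := by
  obtain ⟨x, hx⟩ := QuotientGroup.mk_surjective (π ⟨c, c.2.1⟩)
  refine ⟨⟨x, E.mem_C0_of_image ?_⟩, hx⟩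
  rw [QuotientGroup.mk_mul, QuotientGroup.mk_mul, QuotientGroup.mk_inv, hx, ← E.img, ← map_inv, ← map_mul,
    ← map_mul]
  exact congrArg π (Subtype.ext (mul_inv_eq_iff_eq_mul.2 (mem_centralizer_singleton_iff.1 c.2.2)))

/-- The lift of the image in the first Conway group. -/
def lift (c : ↥(D0 z b)) : S.C0 := (E.exists_lift c).choose

theorem lift_spec (c : ↥(D0 z b)) :
    (QuotientGroup.mk ((E.lift c : S.C0) : Co0) : Cfsg.Spor.Co1) = π ⟨c, c.2.1⟩ := (E.exists_lift c).choose_spec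

/-- The action on the blocks. -/
def phi : ↥(D0 z b) →* S.A :=
  MonoidHom.mk' (fun c => S.hom (E.lift c)) fun c d => by
    rw [← map_mul]
    refine E.lift_congr ?_
    rw [coe_mul, QuotientGroup.mk_mul, E.lift_spec, E.lift_spec, E.lift_spec, ← map_mul]
    rfl

theorem phi_surjective : Function.Surjective E.phi := by
  intro A
  obtain ⟨x, rfl⟩ := S.hom_surjective A
  obtain ⟨c, hc⟩ := D.surj (QuotientGroup.mk (x : Co0))
  let T : Set G := {y | ∃ q ∈ Q, y = (c : G) * q}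
  have hcomm : π ((⟨b, E.mem⟩ : ↥(centralizer ({z} : Set G))) * c) = π (c * ⟨b, E.mem⟩) := by
    rw [map_mul, map_mul, E.img, hc, ← QuotientGroup.mk_mul, ← QuotientGroup.mk_mul, S.mem_C0.1 x.2]
  have hq0 : (c : G)⁻¹ * b * c * b⁻¹ ∈ Q := by
    refine (D.kerπ (c⁻¹ * ⟨b, E.mem⟩ * c * (⟨b, E.mem⟩ : ↥(centralizer ({z} : Set G)))⁻¹)).1 ?_
    rw [mul_assoc c⁻¹, map_mul, map_mul, hcomm, map_mul, map_inv, map_inv, inv_mul_cancel_left,
      mul_inv_cancel]
  have hS : ∀ y ∈ T, b * y * b⁻¹ ∈ T := by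
    rintro _ ⟨q, hq, rfl⟩
    refine ⟨((c : G)⁻¹ * b * c * b⁻¹) * (b * q * b⁻¹), Q.mul_mem hq0 (D.core.norm b E.bz q hq), ?_⟩
    group
  have hcard : T.ncard = 2 ^ 25 := by
    rw [← D.card, show T = (fun q => (c : G) * q) '' (Q : Set G) from
        Set.ext fun y => ⟨fun ⟨q, hq, e⟩ => ⟨q, hq, e.symm⟩, fun ⟨q, hq, e⟩ => ⟨q, hq, e.symm⟩⟩,
      Set.ncard_image_of_injective _ (mul_right_injective _), ← Nat.card_coe_set_eq]
    rfl
  obtain ⟨_, ⟨q, hq, rfl⟩, hb⟩ := exists_fixed_set S.ok.prime S.ok.odd E.powp T hS hcard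
  refine ⟨⟨(c : G) * q, mul_mem c.2 (D.core.le hq), mem_centralizer_singleton_iff.2 hb.symm⟩, ?_⟩
  refine E.lift_congr ?_
  rw [E.lift_spec]
  show π (c * ⟨q, D.core.le hq⟩) = _
  rw [map_mul, (D.kerπ ⟨q, D.core.le hq⟩).2 hq, mul_one, hc]

theorem phi_eq_one_iff (c : ↥(D0 z b)) :
    E.phi c = 1 ↔ ∃ q ∈ fixed Q b, ∃ k : ℕ, (c : G) = q * b ^ k := by
  constructor
  · intro h
    obtain ⟨k, hk⟩ := S.kernel_cases (E.lift c) h
    have hπ : π ⟨c, c.2.1⟩ = π (⟨b, E.mem⟩ ^ k) := by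
      rw [← E.lift_spec, map_pow, E.img, ← QuotientGroup.mk_pow]
      rcases hk with hk | hk <;> rw [hk]
      rw [QuotientGroup.mk_mul, (QuotientGroup.eq_one_iff _).2 negAut_central, one_mul]
    have hq : (c : G) * (b ^ k)⁻¹ ∈ Q := by
      refine (D.kerπ (⟨c, c.2.1⟩ * (⟨b, E.mem⟩ ^ k : ↥(centralizer ({z} : Set G)))⁻¹)).1 ?_
      rw [map_mul, map_inv, hπ, mul_inv_cancel]
    exact ⟨_, ⟨hq, (centralizer ({b} : Set G)).mul_mem c.2.2 ((centralizer ({b} : Set G)).inv_mem (pow_mem (mem_centralizer_singleton_iff.2 rfl) k))⟩, k,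
      (inv_mul_cancel_right _ _).symm⟩
  · rintro ⟨q, hq, k, e⟩
    have hb : (b : G) ∈ D0 z b := ⟨E.mem, mem_centralizer_singleton_iff.2 rfl⟩
    have e' : c = ⟨q, D.core.le hq.1, hq.2⟩ * (⟨b, hb⟩ : ↥(D0 z b)) ^ k := Subtype.ext e
    have h1 : E.phi ⟨q, D.core.le hq.1, hq.2⟩ = 1 := by
      show S.hom _ = 1
      rw [← map_one S.hom]
      refine E.lift_congr ?_
      rw [E.lift_spec, (D.kerπ _).2 hq.1]
      rfl
    have h2 : E.phi ⟨b, hb⟩ = 1 := by
      show S.hom _ = 1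
      rw [← S.hom_P]
      exact E.lift_congr ((E.lift_spec _).trans E.img)
    rw [e', map_mul, map_pow, h1, h2, one_pow, one_mul]

/-- An element centralizing the fixed points acts trivially. -/
theorem phi_of_centralizes (c : ↥(D0 z b)) (h : ∀ r ∈ fixed Q b, r * (c : G) = c * r) : E.phi c = 1 := by
  refine S.hom_trivial fun r => S.toMoved.pos_unique ?_
  have hr := pick_spec S D (S.toMoved.cls r)
  have h' := D.conj ⟨c, c.2.1⟩ (E.lift_spec c).symm hr
  change R _ ((c : G) * pick S D (S.toMoved.cls r) * (c : G)⁻¹) at h'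
  rw [mul_inv_eq_iff_eq_mul.2 (h _ (E.pick_mem _)).symm] at h'
  exact D.congr_of_fixed hr h'

end Elt

end

end CfsgLib.Spor.MonsterType.Fix
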