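import Cfsg.Agent.Lib.Spor.MonsterType.Fix.Basic
import Cfsg.Agent.Lib.Spor.Leech.MatAut

/-!
# Generators of the centralizer: permutations, sign changes and one table
-/

set_option autoImplicit false

namespace CfsgLib.Spor.MonsterType.Fix

open Subgroup CfsgLib.Spor CfsgLib.Spor.Leech
open CfsgLib.Spor.MonsterType.Seven (Cong congTest cong_of_test single_inj mono_eight mem_crossStab_of_cong
  cong_of_mem_crossStab)
open Cfsg (leechLattice Co0 sqNorm GolayPt M24 dotInt supports golayCode)
open scoped Pointwise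

/-- The data of the generators and of the stabiliser of the standard class. -/
structure OpCfg where
  /-- Pairs of base positions related by the permutation. -/
  pairs : List (ℕ × ℕ)
  /-- Members of the centralizer in the Mathieu group. -/
  cent : List ℕ
  /-- The numbers of a transversal of the stabiliser of the first base point. -/
  trans : List ℕ
  /-- The numbers of the stabiliser of the first base point. -/
  stab : List ℕ
  /-- For every member: a generator and an earlier member. -/
  words : List (ℕ × ℕ)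
  /-- Generators of the centralizer. -/
  pgens : List ℕ
  /-- The invariant code words. -/
  masks : List ℕ
  /-- The extra table. -/
  mat : List (List ℤ)
  /-- Its transpose. -/
  matT : List (List ℤ)

/-- Consistency of base images with commuting. -/
def okPairs (code : ℕ) (pairs : List (ℕ × ℕ)) (l : List ℕ) : Bool :=
  pairs.all fun q => !(Nat.ble (q.1 + 1) l.length && Nat.ble (q.2 + 1) l.length) ||
    (permFn code (l.getD q.1 0) == l.getD q.2 0)

/-- Consistency with commuting and fixing the first base point. -/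
def okStab (code : ℕ) (pairs : List (ℕ × ℕ)) (l : List ℕ) : Bool :=
  (l.getD 0 23 == 23) && okPairs code pairs l

/-- The checks of the generators. -/
structure OpOK (T : Tab) (S : OpCfg) : Prop where
  pairs_ok : S.pairs.all (fun q => decide (q.1 < 7) && (decide (q.2 < 7) &&
    (permFn T.code (basePts.getD q.1 0) == basePts.getD q.2 0))) = true
  first_moves : permFn T.code 23 ≠ 23
  reach : ∀ q, fnPt T.code q = q ∨ (S.trans.any fun i => permFn (S.cent.getD i 0) 23 == ptIdx q) = true
  index_lt : (S.trans ++ S.stab).all (fun i => decide (i < S.cent.length)) = true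
  cands : ((chainCands (okStab T.code S.pairs) 7).filter fun c => commCodes c T.code).all
    (fun c => S.stab.any fun i => S.cent.getD i 0 == c) = true
  cent_comm : S.trans.all (fun i => commCodes (S.cent.getD i 0) T.code) = true
  cent_ok : (List.range S.cent.length).all (fun i => isPermCode (S.cent.getD i 0) &&
    ((S.cent.getD i 0 == idPacked) || (decide ((S.words.getD i (0, 0)).1 < S.pgens.length) &&
      (decide ((S.words.getD i (0, 0)).2 < i) &&
        (permMulCode (S.pgens.getD (S.words.getD i (0, 0)).1 0) (S.cent.getD (S.words.getD i (0, 0)).2 0) ==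
          S.cent.getD i 0))))) = true
  pgens_ok : S.pgens.all (fun g => isM24Code g && commCodes g T.code) = true
  masks_all : codeList.all (fun m => !(permMask T.code m == m) || S.masks.contains m) = true
  masks_ok : S.masks.all (fun m => codeTest m && (permMask T.code m == m)) = true
  cert : MatCert S.mat S.matT
  certT : MatCert S.matT S.mat
  comm : ∀ i q, tabEntry S.mat (fnPt T.code i) (fnPt T.code q) = tabEntry S.mat i q

noncomputable section

/-- A table together with generators. -/
structure Sys extends Tab where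
  /-- The generators. -/
  ops : OpCfg
  opOK : OpOK toTab ops

namespace Sys

variable (S : Sys)

theorem pgen_facts (i : Fin S.ops.pgens.length) : isM24Code (S.ops.pgens.get i) = true ∧
    commCodes (S.ops.pgens.get i) S.code = true := by
  have := List.all_eq_true.1 S.opOK.pgens_ok _ (List.get_mem S.ops.pgens i)
  simpa using this

/-- A generator of the centralizer in the Mathieu group. -/
def pperm (i : Fin S.ops.pgens.length) : M24 :=
  ⟨permOf (S.ops.pgens.get i), permOf_mem_M24 (S.pgen_facts i).1⟩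

theorem mask_mem (i : Fin S.ops.masks.length) :
    pts (S.ops.masks.get i) ∈ supports (golayCode : Set (GolayPt → ZMod 2)) := by
  have := List.all_eq_true.1 S.opOK.masks_ok _ (List.get_mem S.ops.masks i)
  simp only [Bool.and_eq_true] at this
  exact pts_supports this.1

/-- The indices of the generators. -/
abbrev Op : Type := Fin S.ops.pgens.length ⊕ (Fin S.ops.masks.length ⊕ Unit)

/-- The generators. -/
def gen : S.Op → Co0
  | .inl i => prmHom (S.pperm i)⁻¹
  | .inr (.inl j) => sgnAut (S.mask_mem j)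
  | .inr (.inr _) => matAut S.ops.mat S.ops.matT S.opOK.cert S.opOK.certT

/-- The generators on vectors. -/
def act : S.Op → (GolayPt → ℤ) → GolayPt → ℤ
  | .inl i, v, q => v (fnPt (S.ops.pgens.get i) q)
  | .inr (.inl j), v, q => if (S.ops.masks.get j).testBit (ptIdx q) then -v q else v q
  | .inr (.inr _), v, q => matVec S.ops.mat v q

theorem gen_smul (o : S.Op) (v : leechLattice) :
    ((S.gen o • v : leechLattice) : GolayPt → ℤ) = S.act o v := by
  funext q
  rcases o with i | j | u
  · show ((prmAut ((S.pperm i)⁻¹).2 • v : leechLattice) : GolayPt → ℤ) q = _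
    rw [prmAut_smul]
    show (v : GolayPt → ℤ) (((S.pperm i : Equiv.Perm GolayPt)⁻¹).symm q) = _
    rw [show ((S.pperm i : Equiv.Perm GolayPt)⁻¹).symm = (S.pperm i : Equiv.Perm GolayPt) from rfl]
    exact congrArg _ (permOf_apply (isPermCode_of_isM24Code (S.pgen_facts i).1) q)
  · show ((sgnAut _ • v : leechLattice) : GolayPt → ℤ) q = _
    rw [sgnAut_smul]
    simp only [act, mem_pts]
  · rfl

/-- The subgroup of the generators. -/
def H : Subgroup Co0 := closure (Set.range S.gen)

theorem gen_mem_H (o : S.Op) : S.gen o ∈ S.H := subset_closure ⟨o, rfl⟩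

theorem sigma_comm {c : ℕ} (hc : isPermCode c = true) (h : commCodes c S.code = true) :
    permOf c * S.sigma = S.sigma * permOf c :=
  eq_mul_of_commCodes hc S.code_perm h

theorem gen_mem (o : S.Op) : S.gen o ∈ S.C0 := by
  refine S.mem_C0.2 ?_
  rcases o with i | j | u
  · have h : Commute (S.pperm i) (⟨S.sigma, S.sigma_mem⟩ : M24) :=
      Subtype.ext (S.sigma_comm (isPermCode_of_isM24Code (S.pgen_facts i).1) (S.pgen_facts i).2)
    exact (h.inv_left.map prmHom).eq
  · refine co0_eq fun v q => ?_
    obtain ⟨r, rfl⟩ := S.sigma.surjective q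
    have hm := List.all_eq_true.1 S.opOK.masks_ok _ (List.get_mem S.ops.masks j)
    simp only [Bool.and_eq_true, beq_iff_eq] at hm
    have hiff : S.sigma r ∈ pts (S.ops.masks.get j) ↔ r ∈ pts (S.ops.masks.get j) := by
      have e : S.sigma • pts (S.ops.masks.get j) = pts (S.ops.masks.get j) := by
        rw [Tab.sigma, smul_pts S.code_perm, hm.2]
      conv_lhs => rw [← e]
      exact Finset.smul_mem_smul_finset_iff S.sigma
    rw [mul_smul, mul_smul]
    simp only [gen, sgnAut_smul, S.sigma_apply, S.P_apply]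
    simp only [← S.sigma_apply, hiff]
  · refine co0_ext fun i => Subtype.ext (funext fun q => ?_)
    obtain ⟨r, rfl⟩ := S.sigma.surjective q
    have he : S.P • eight i = eight (fnPt S.code i) := by
      rw [← S.sigma_apply]; exact prmHom_eight ⟨S.sigma, S.sigma_mem⟩ i
    rw [mul_smul, mul_smul, he, S.sigma_apply, S.P_apply]
    simp only [gen, matAut_eight, S.opOK.comm]

theorem cent_facts (i : ℕ) (hi : i < S.ops.cent.length) : isPermCode (S.ops.cent.getD i 0) = true ∧
    ∃ hM : permOf (S.ops.cent.getD i 0) ∈ M24, prmHom ⟨_, hM⟩ ∈ S.H := by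
  induction i using Nat.strong_induction_on with
  | _ i ih =>
    have hc := List.all_eq_true.1 S.opOK.cent_ok i (List.mem_range.2 hi)
    simp only [Bool.and_eq_true, Bool.or_eq_true, beq_iff_eq, decide_eq_true_eq] at hc
    obtain ⟨hp, h0 | ⟨hg, hj, he⟩⟩ := hc
    · refine ⟨hp, ?_⟩
      have e : permOf (S.ops.cent.getD i 0) = 1 := by rw [h0, permOf_idPacked]
      refine ⟨e ▸ M24.one_mem, ?_⟩
      rw [show (⟨permOf (S.ops.cent.getD i 0), e ▸ M24.one_mem⟩ : M24) = 1 from Subtype.ext e, map_one]
      exact one_mem _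
    · obtain ⟨hpj, hMj, hHj⟩ := ih _ hj (hj.trans hi)
      set g := (⟨(S.ops.words.getD i (0, 0)).1, hg⟩ : Fin S.ops.pgens.length) with hgdef
      have eg : S.ops.pgens.getD (S.ops.words.getD i (0, 0)).1 0 = S.ops.pgens.get g :=
        List.getD_eq_getElem _ _ hg
      rw [eg] at he
      have e : permOf (S.ops.cent.getD i 0) = permOf (S.ops.pgens.get g) *
          permOf (S.ops.cent.getD (S.ops.words.getD i (0, 0)).2 0) :=
        (permOf_permMulCode (isPermCode_of_isM24Code (S.pgen_facts g).1) hpj hp he).symm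
      refine ⟨hp, e ▸ M24.mul_mem (S.pperm g).2 hMj, ?_⟩
      rw [show (⟨permOf (S.ops.cent.getD i 0), e ▸ M24.mul_mem (S.pperm g).2 hMj⟩ : M24) =
        S.pperm g * ⟨_, hMj⟩ from Subtype.ext e, map_mul]
      refine mul_mem ?_ hHj
      have := inv_mem (S.gen_mem_H (.inl g))
      rwa [gen, ← map_inv, inv_inv] at this

theorem index_lt {i : ℕ} (h : i ∈ S.ops.trans ∨ i ∈ S.ops.stab) : i < S.ops.cent.length :=
  of_decide_eq_true (List.all_eq_true.1 S.opOK.index_lt i (List.mem_append.2 h))

theorem stab_complete {τ : Equiv.Perm GolayPt} (hτ : τ ∈ M24) (h : τ * S.sigma = S.sigma * τ)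
    (h0 : τ (bpt 0) = bpt 0) : ∃ i ∈ S.ops.stab, permOf (S.ops.cent.getD i 0) = τ := by
  have hx := S.code_perm
  obtain ⟨c, hcm, rfl⟩ := exists_cand (okStab S.code S.ops.pairs) hτ fun n hn hn0 => by
    have get : ∀ i < n, ∀ d, ((List.range n).map fun j => ptIdx (τ (bpt j))).getD i d = ptIdx (τ (bpt i)) :=
      fun i hi d => by
        rw [List.getD_eq_getElem _ _ (by simpa using hi), List.getElem_map, List.getElem_range]
    simp only [okStab, okPairs, imgsOf, List.length_map, List.length_range, List.all_eq_true, Bool.or_eq_true,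
      Bool.and_eq_true, Bool.not_eq_true', beq_iff_eq]
    refine ⟨by rw [get 0 hn0, h0]; rfl, ?_⟩
    rintro ⟨i, j⟩ hq
    have hd := List.all_eq_true.1 S.opOK.pairs_ok _ hq
    simp only [Bool.and_eq_true, decide_eq_true_eq, beq_iff_eq] at hd
    obtain ⟨hi7, hj7, hij⟩ := hd
    by_cases hb : i < n ∧ j < n
    · right
      rw [get i hb.1, get j hb.2]
      have e1 : S.sigma (bpt i) = bpt j := by
        rw [Tab.sigma, bpt, bpt, permOf_idxPt hx (basePts_lt i hi7), hij]
      rw [permFn_eq_ptIdx hx (ptIdx_lt _), idxPt_ptIdx, ← Tab.sigma, ← Equiv.Perm.mul_apply, ← h,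
        Equiv.Perm.mul_apply, e1]
    · left
      simp only [← Bool.not_eq_true, Bool.and_eq_true, Nat.ble_eq]
      omega
  have hp := isPermCode_chainCands (okStab S.code S.ops.pairs) 7 c hcm
  obtain ⟨i, hi, e⟩ := List.any_eq_true.1 (List.all_eq_true.1 S.opOK.cands c
    (List.mem_filter.2 ⟨hcm, commCodes_of hp hx h⟩))
  exact ⟨i, hi, congrArg permOf (beq_iff_eq.1 e)⟩

theorem cent_complete {τ : Equiv.Perm GolayPt} (hτ : τ ∈ M24) (h : τ * S.sigma = S.sigma * τ) :
    ∃ i ∈ S.ops.trans, ∃ j ∈ S.ops.stab,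
      τ = permOf (S.ops.cent.getD i 0) * permOf (S.ops.cent.getD j 0) := by
  have hmv : fnPt S.code (τ (bpt 0)) ≠ τ (bpt 0) := fun e => S.opOK.first_moves (by
    have e' : S.sigma (bpt 0) = bpt 0 := τ.injective (by
      rw [← Equiv.Perm.mul_apply, h, Equiv.Perm.mul_apply, S.sigma_apply, e])
    rw [show bpt 0 = idxPt 23 from rfl, Tab.sigma, permOf_idxPt S.code_perm (by norm_num)] at e'
    have := congrArg ptIdx e'
    rwa [ptIdx_idxPt _ (permFn_lt S.code_perm (by norm_num)), ptIdx_idxPt _ (by norm_num)] at this)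
  obtain ⟨i, hi, e⟩ := List.any_eq_true.1 ((S.opOK.reach (τ (bpt 0))).resolve_left hmv)
  obtain ⟨hp, hM, -⟩ := S.cent_facts i (S.index_lt (Or.inl hi))
  have hci : permOf (S.ops.cent.getD i 0) (bpt 0) = τ (bpt 0) := by
    rw [show bpt 0 = idxPt 23 from rfl, permOf_idxPt hp (by norm_num)]
    exact (congrArg idxPt (beq_iff_eq.1 e)).trans (idxPt_ptIdx _)
  have hcomm : Commute (permOf (S.ops.cent.getD i 0)) S.sigma :=
    S.sigma_comm hp (List.all_eq_true.1 S.opOK.cent_comm i hi)
  obtain ⟨j, hj, ej⟩ := S.stab_complete (τ := (permOf (S.ops.cent.getD i 0))⁻¹ * τ)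
    (M24.mul_mem (M24.inv_mem hM) hτ) (hcomm.inv_left.mul_left h).eq
    (by rw [Equiv.Perm.mul_apply, ← hci]; exact Equiv.symm_apply_apply _ _)
  exact ⟨i, hi, j, hj, by rw [ej, mul_inv_cancel_left]⟩

theorem mask_complete {c : Finset GolayPt} (hc : c ∈ supports (golayCode : Set (GolayPt → ZMod 2)))
    (h : ∀ q, (S.sigma q ∈ c ↔ q ∈ c)) : ∃ m ∈ S.ops.masks, pts m = c := by
  refine ⟨maskPts c, ?_, pts_maskPts c⟩
  have e : permMask S.code (maskPts c) = maskPts c := by
    refine eq_of_pts_eq (permMask_lt S.code_perm _) (maskPts_lt c) ?_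
    rw [← smul_pts S.code_perm, pts_maskPts]
    ext q
    obtain ⟨r, rfl⟩ := S.sigma.surjective q
    rw [h r]
    exact Finset.smul_mem_smul_finset_iff (permOf S.code)
  have := List.all_eq_true.1 S.opOK.masks_all _ ((mem_supports_iff c).1 hc)
  simp only [Bool.or_eq_true, Bool.not_eq_true', beq_eq_false_iff_ne, List.contains_iff_mem] at this
  exact this.resolve_left fun h' => h' e

theorem mono_cases {x : Co0} (hx : x ∈ S.C0) (hs : x ∈ crossStab) :
    ∃ j : Fin S.ops.masks.length, ∃ i : Fin S.ops.trans.length, ∃ k : Fin S.ops.stab.length,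
      x = sgnAut (S.mask_mem j) *
        (prmHom ⟨_, (S.cent_facts _ (S.index_lt (Or.inl (List.get_mem S.ops.trans i)))).2.1⟩ *
          prmHom ⟨_, (S.cent_facts _ (S.index_lt (Or.inr (List.get_mem S.ops.stab k)))).2.1⟩) := by
  obtain ⟨τ, hτ, c, hc, rfl⟩ := exists_monoAut hs
  have hne : ∀ q : GolayPt, (if q ∈ c then (-8 : ℤ) else 8) ≠ 0 := fun q => by split_ifs <;> norm_num
  have key : ∀ i, τ (S.sigma i) = S.sigma (τ i) ∧ (τ (S.sigma i) ∈ c ↔ τ i ∈ c) := fun i => by
    have e := congrArg (fun g : Co0 => g • eight i) (S.mem_C0.1 hx)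
    simp only [mul_smul] at e
    rw [show S.P • eight i = eight (S.sigma i) from prmHom_eight ⟨S.sigma, S.sigma_mem⟩ i] at e
    have e' := congrArg (fun w : leechLattice => (w : GolayPt → ℤ)) e
    simp only [mono_eight] at e'
    have hP : ((S.P • (monoAut hτ hc • eight i) : leechLattice) : GolayPt → ℤ) =
        Pi.single (S.sigma (τ i)) (if τ i ∈ c then -8 else 8) := by
      funext q
      obtain ⟨r, rfl⟩ := S.sigma.surjective q
      rw [S.sigma_apply r, S.P_apply, mono_eight, ← S.sigma_apply]
      simp only [Pi.single_apply, S.sigma.injective.eq_iff]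
    rw [hP] at e'
    obtain ⟨e1, e2⟩ := single_inj (hne _) e'
    refine ⟨e1, ?_⟩
    split_ifs at e2 <;> simp_all
  obtain ⟨i, hi, k, hk, he⟩ := S.cent_complete hτ (Equiv.ext fun i => (key i).1)
  obtain ⟨m, hm, rfl⟩ := S.mask_complete hc fun q => by
    obtain ⟨i, rfl⟩ := τ.surjective q
    rw [← (key i).1]; exact (key i).2
  obtain ⟨j, hj, rfl⟩ := List.getElem_of_mem hm
  obtain ⟨i, hi', rfl⟩ := List.getElem_of_mem hi
  obtain ⟨k, hk', rfl⟩ := List.getElem_of_mem hk
  refine ⟨⟨j, hj⟩, ⟨i, hi'⟩, ⟨k, hk'⟩, ?_⟩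
  rw [monoAut_eq, ← map_mul]
  exact congrArg₂ (· * ·) (sgnAut_congr rfl) (congrArg prmHom (Subtype.ext he :
    (⟨τ, hτ⟩ : M24) = _ * _))

theorem stab_le : S.C0 ⊓ crossStab ≤ S.H := by
  rintro x ⟨hx, hs⟩
  obtain ⟨j, i, k, rfl⟩ := S.mono_cases hx hs
  exact mul_mem (S.gen_mem_H (.inr (.inl j))) (mul_mem
    (S.cent_facts _ (S.index_lt (Or.inl (List.get_mem S.ops.trans i)))).2.2
    (S.cent_facts _ (S.index_lt (Or.inr (List.get_mem S.ops.stab k)))).2.2)

theorem card_stab :
    Nat.card ↥(S.C0 ⊓ crossStab) ≤ S.ops.masks.length * (S.ops.trans.length * S.ops.stab.length) := by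
  classical
  let f : Fin S.ops.masks.length × Fin S.ops.trans.length × Fin S.ops.stab.length → Co0 := fun t =>
    sgnAut (S.mask_mem t.1) *
      (prmHom ⟨_, (S.cent_facts _ (S.index_lt (Or.inl (List.get_mem S.ops.trans t.2.1)))).2.1⟩ *
        prmHom ⟨_, (S.cent_facts _ (S.index_lt (Or.inr (List.get_mem S.ops.stab t.2.2)))).2.1⟩)
  have h : ∀ x : ↥(S.C0 ⊓ crossStab), ∃ t, (x : Co0) = f t := fun x => by
    obtain ⟨j, i, k, e⟩ := S.mono_cases x.2.1 x.2.2
    exact ⟨(j, i, k), e⟩
  choose t ht using h
  refine (Nat.card_le_card_of_injective t fun a b hab => Subtype.ext (by rw [ht, ht, hab])).trans (le_of_eq ?_)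
  rw [Nat.card_eq_fintype_card, Fintype.card_prod, Fintype.card_prod, Fintype.card_fin, Fintype.card_fin,
    Fintype.card_fin]

end Sys

end

end CfsgLib.Spor.MonsterType.Fix
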