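import Cfsg.Prelude.Def_MonsterType

/-!
# Alternating groups from three-cycles, and the wreath product of degree ten
-/

set_option autoImplicit false

namespace CfsgLib.Spor.MonsterType.Fix

open Equiv Equiv.Perm

/-- A permutation from two maps, if they are inverse to each other. -/
def permOfFn {α : Type*} [Fintype α] [DecidableEq α] (f g : α → α) : Perm α :=
  if h : (∀ x, g (f x) = x) ∧ ∀ x, f (g x) = x then ⟨f, g, h.1, h.2⟩ else 1

section Three

variable {n : ℕ} (o i : Fin n)

/-- The three-cycle through two given points and a third. -/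
def basicThree (k : Fin n) : Perm (Fin n) := swap o i * swap i k

/-- A three-cycle through the first point, as a word. -/
def originThree (a b : Fin n) : Perm (Fin n) :=
  if a = i then basicThree o i b else if b = i then (basicThree o i a)⁻¹ else basicThree o i b * (basicThree o i a)⁻¹

/-- A three-cycle as a word. -/
def anyThree (a b c : Fin n) : Perm (Fin n) :=
  if a = o then originThree o i b c else if b = o then originThree o i c a else if c = o then originThree o i a b
  else originThree o i a b * originThree o i b c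

theorem alternating_le {H : Subgroup (Perm (Fin n))}
    (hH : ∀ k, k ≠ o → k ≠ i → basicThree o i k ∈ H)
    (hid : ∀ a b c : Fin n, a ≠ b → a ≠ c → b ≠ c → swap a b * swap b c = anyThree o i a b c) :
    alternatingGroup (Fin n) ≤ H := by
  rw [← closure_three_cycles_eq_alternating, Subgroup.closure_le]
  intro g hg
  obtain ⟨a, ha⟩ : g.support.Nonempty := Finset.card_pos.1 (by rw [IsThreeCycle.card_support hg]; norm_num)
  have hnd := (IsThreeCycle.nodup_iff_mem_support hg).2 ha
  simp only [List.nodup_cons, List.mem_cons, List.mem_singleton, List.not_mem_nil, or_false, not_or,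
    List.nodup_nil, and_true] at hnd
  obtain ⟨⟨h1, h2⟩, h3⟩ := hnd
  rw [(IsThreeCycle.eq_swap_mul_swap_iff_mem_support hg).2 ha]
  have h3' : g a ≠ g (g a) := by tauto
  rw [SetLike.mem_coe, hid _ _ _ h1 h2 h3']
  have horig : ∀ a b : Fin n, a ≠ o → b ≠ o → a ≠ b → originThree o i a b ∈ H := by
    intro a b ha hb hab
    rw [originThree]
    split_ifs with e1 e2
    · exact hH b hb fun e => hab (e1.trans e.symm)
    · exact H.inv_mem (hH a ha e1)
    · exact H.mul_mem (hH b hb e2) (H.inv_mem (hH a ha e1))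
  rw [anyThree]
  split_ifs with e1 e2 e3
  · exact horig _ _ (fun e => h1 (e1.trans e.symm)) (fun e => h2 (e1.trans e.symm)) h3'
  · exact horig _ _ (fun e => h3' (e2.trans e.symm)) e1 (Ne.symm h2)
  · exact horig _ _ e1 e2 h1
  · exact H.mul_mem (horig _ _ e1 e2 h1) (horig _ _ e2 e3 h3')

end Three

theorem three_nine : ∀ a b c : Fin 9, a ≠ b → a ≠ c → b ≠ c →
    swap a b * swap b c = anyThree (0 : Fin 9) 1 a b c := by decide +kernel

theorem three_five : ∀ a b c : Fin 5, a ≠ b → a ≠ c → b ≠ c →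
    swap a b * swap b c = anyThree (0 : Fin 5) 1 a b c := by decide +kernel

theorem alternating_two_free (n : ℕ) (hn : 5 ≤ n) (U : Subgroup (alternatingGroup (Fin n))) (hU : U.Normal)
    (h2 : IsPGroup 2 U) : U = ⊥ := by
  haveI : Fact (Nat.Prime 2) := ⟨Nat.prime_two⟩
  haveI := alternatingGroup.isSimpleGroup (α := Fin n) (by rw [Nat.card_fin]; exact hn)
  refine (hU.eq_bot_or_eq_top).resolve_right fun h => ?_
  subst h
  obtain ⟨k, hk⟩ := h2.exists_card_eq
  haveI : Nontrivial (Fin n) := Fin.nontrivial_iff_two_le.2 (by omega)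
  rw [Subgroup.card_top, nat_card_alternatingGroup, Nat.card_fin] at hk
  have h3 : 3 ∣ 2 ^ k := by
    rw [← hk]
    refine Nat.dvd_div_of_mul_dvd ?_
    exact (show 2 * 3 ∣ Nat.factorial 3 from dvd_rfl).trans (Nat.factorial_dvd_factorial (by omega))
  have := (Nat.prime_dvd_prime_iff_eq Nat.prime_three Nat.prime_two).1 (Nat.prime_three.dvd_of_dvd_pow h3)
  omega

/-! ### The wreath product -/

local notation "A₅" => alternatingGroup (Fin 5)
local notation "W" => Cfsg.alternatingFiveWreathTwo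

/-- The base group. -/
def wrBase : A₅ × A₅ →* Perm (Fin 5 ⊕ Fin 5) :=
  (Perm.sumCongrHom (Fin 5) (Fin 5)).comp ((A₅).subtype.prodMap (A₅).subtype)

theorem wrBase_mem (t : A₅ × A₅) : wrBase t ∈ W := Subgroup.subset_closure (Or.inl ⟨t.1, t.2, rfl⟩)

theorem wrBase_injective : Function.Injective wrBase :=
  Perm.sumCongrHom_injective.comp fun _ _ h =>
    Prod.ext (Subtype.ext (congrArg Prod.fst h)) (Subtype.ext (congrArg Prod.snd h))

theorem swap_mem : (Equiv.sumComm (Fin 5) (Fin 5) : Perm (Fin 5 ⊕ Fin 5)) ∈ W :=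
  Subgroup.subset_closure (Or.inr rfl)

theorem swap_wrBase (t : A₅ × A₅) : (Equiv.sumComm (Fin 5) (Fin 5) : Perm (Fin 5 ⊕ Fin 5)) * wrBase t =
    wrBase t.swap * (Equiv.sumComm (Fin 5) (Fin 5) : Perm (Fin 5 ⊕ Fin 5)) := by
  ext (x | x) <;> rfl

theorem wr_cases {w : Perm (Fin 5 ⊕ Fin 5)} (hw : w ∈ W) :
    ∃ t, w = wrBase t ∨ w = wrBase t * Equiv.sumComm (Fin 5) (Fin 5) := by
  have hs : (Equiv.sumComm (Fin 5) (Fin 5) : Perm (Fin 5 ⊕ Fin 5)) * Equiv.sumComm (Fin 5) (Fin 5) = 1 := by
    ext (x | x) <;> rfl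
  rw [Cfsg.alternatingFiveWreathTwo] at hw
  induction hw using Subgroup.closure_induction with
  | mem y hy =>
    rcases hy with ⟨σ, τ, rfl⟩ | rfl
    · exact ⟨(σ, τ), Or.inl rfl⟩
    · exact ⟨1, Or.inr (by rw [map_one, one_mul])⟩
  | one => exact ⟨1, Or.inl (map_one _).symm⟩
  | mul a b _ _ iha ihb =>
    obtain ⟨s, rfl | rfl⟩ := iha <;> obtain ⟨t, rfl | rfl⟩ := ihb
    · exact ⟨s * t, Or.inl (map_mul _ _ _).symm⟩
    · exact ⟨s * t, Or.inr (by rw [map_mul, mul_assoc])⟩
    · exact ⟨s * t.swap, Or.inr (by rw [mul_assoc, swap_wrBase, map_mul, mul_assoc])⟩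
    · refine ⟨s * t.swap, Or.inl ?_⟩
      rw [mul_assoc, ← mul_assoc _ (wrBase t), swap_wrBase, mul_assoc (wrBase t.swap), hs, mul_one, map_mul]
  | inv a _ iha =>
    obtain ⟨s, rfl | rfl⟩ := iha
    · exact ⟨s⁻¹, Or.inl (map_inv _ _).symm⟩
    · refine ⟨s⁻¹.swap, Or.inr ?_⟩
      rw [mul_inv_rev, ← map_inv, inv_eq_of_mul_eq_one_right hs, swap_wrBase]

theorem card_wr : 7200 ≤ Nat.card W := by
  classical
  let f : (A₅ × A₅) × Bool → W := fun t =>
    ⟨wrBase t.1 * (if t.2 then Equiv.sumComm (Fin 5) (Fin 5) else 1),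
      mul_mem (wrBase_mem t.1) (by split_ifs <;> [exact swap_mem; exact one_mem _])⟩
  have hf : Function.Injective f := by
    rintro ⟨s, a⟩ ⟨t, b⟩ h
    have h' := congrArg Subtype.val h
    have hl := congrArg (fun g : Perm (Fin 5 ⊕ Fin 5) => (g (Sum.inl 0)).isLeft) h'
    cases a <;> cases b <;> simp [f, wrBase] at hl
    · exact Prod.ext (wrBase_injective (by simpa [f] using h')) rfl
    · exact Prod.ext (wrBase_injective (by simpa [f] using h')) rfl
  refine le_trans (le_of_eq ?_) (Nat.card_le_card_of_injective f hf)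
  rw [Nat.card_prod, Nat.card_prod, nat_card_alternatingGroup, Nat.card_fin, Nat.card_eq_fintype_card,
    Fintype.card_bool]
  rfl

theorem wr_two_free (U : Subgroup W) (hU : U.Normal) (h2 : IsPGroup 2 U) : U = ⊥ := by
  let ι : A₅ × A₅ →* W := wrBase.codRestrict W wrBase_mem
  have hι : Function.Injective ι := fun a b h => wrBase_injective (congrArg Subtype.val h)
  set V := U.comap ι with hV
  haveI : V.Normal := hU.comap ι
  have hV2 : IsPGroup 2 V := h2.comap_of_injective ι hι
  have hfst : V.map (MonoidHom.fst A₅ A₅) = ⊥ := alternating_two_free 5 le_rfl _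
    (Subgroup.Normal.map inferInstance _ fun a => ⟨(a, 1), rfl⟩) (hV2.map _)
  have hsnd : V.map (MonoidHom.snd A₅ A₅) = ⊥ := alternating_two_free 5 le_rfl _
    (Subgroup.Normal.map inferInstance _ fun a => ⟨(1, a), rfl⟩) (hV2.map _)
  have hbase : ∀ t, ι t ∈ U → t = 1 := fun t ht => Prod.ext
    ((Subgroup.map_eq_bot_iff V).1 hfst (show t ∈ V from ht) : _)
    ((Subgroup.map_eq_bot_iff V).1 hsnd (show t ∈ V from ht) : _)
  refine (Subgroup.eq_bot_iff_forall U).2 fun u hu => ?_
  obtain ⟨t, ht | ht⟩ := wr_cases u.2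
  · have e : u = ι t := Subtype.ext ht
    rw [e, hbase t (e ▸ hu), map_one]
  · exfalso
    haveI : Nontrivial A₅ := alternatingGroup.nontrivial_of_three_le_card (by rw [Nat.card_fin]; norm_num)
    obtain ⟨x, hx⟩ := exists_ne (1 : A₅)
    have hm : u * ι (x, 1) * u⁻¹ * (ι (x, 1))⁻¹ ∈ U := by
      rw [mul_assoc u, mul_assoc u]
      exact mul_mem hu (hU.conj_mem _ (inv_mem hu) _)
    have e : u * ι (x, 1) * u⁻¹ = ι (t * (1, x) * t⁻¹) := by
      refine Subtype.ext ?_
      show (u : Perm (Fin 5 ⊕ Fin 5)) * wrBase (x, 1) * (u : Perm (Fin 5 ⊕ Fin 5))⁻¹ = wrBase _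
      rw [ht, mul_assoc (wrBase t), swap_wrBase, mul_inv_rev, map_mul, map_mul, map_inv]
      simp only [Prod.swap_prod_mk]
      group
    rw [e, ← map_inv, ← map_mul] at hm
    have := congrArg Prod.fst (hbase _ hm)
    simp only [Prod.fst_mul, Prod.fst_inv, Prod.fst_one] at this
    rw [mul_one, mul_inv_cancel, one_mul, inv_eq_one] at this
    exact hx this

end CfsgLib.Spor.MonsterType.Fix
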