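import Cfsg.Agent.Lib.Spor.MonsterType.Fix.Elt
import Cfsg.Agent.Lib.Spor.Fi22Model.FStar
import Cfsg.Agent.Lib.PGroup.SymplecticPairs

/-!
# The centralizer of an element in standard position, modulo it: the setting of width four
-/

set_option autoImplicit false

namespace CfsgLib.Spor.MonsterType.Fix

open Subgroup CfsgLib.Spor CfsgLib.Spor.Leech
open scoped commutatorElement
open Cfsg (leechLattice Co0 sqNorm GolayPt)

noncomputable section

variable {S : Blocked} {G : Type*} [Group G] [Finite G] {z : G} {Q : Subgroup G} {R : leechLattice → G → Prop}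
  {π : ↥(centralizer ({z} : Set G)) →* Cfsg.Spor.Co1} {D : Data z Q R π} {b : G}

omit [Finite G] in
theorem mem_cent_zpowers {m : G} : m ∈ centralizer (zpowers b : Set G) ↔ m * b = b * m := by
  rw [zpowers_eq_closure, centralizer_closure]
  exact mem_centralizer_singleton_iff

omit [Finite G] in
theorem eq_one_of_four {p : ℕ} (hp : p % 2 = 1) {a : G} (h : a ^ p = 1) (h4 : a ^ 4 = 1) : a = 1 := by
  have hg : Nat.gcd p 4 = 1 :=
    Nat.Coprime.pow_right 2 (Nat.coprime_two_right.2 (Nat.odd_iff.2 hp))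
  rw [← pow_one a, ← hg, pow_gcd_eq_one]
  exact ⟨h, h4⟩

variable (E : Elt S D b)
include E

theorem Elt.pow_four {a : G} (ha : a ∈ Q) : a ^ 4 = 1 := by
  rw [show (4 : ℕ) = 2 * 2 from rfl, pow_mul, pow_two a]
  rcases D.core.sq_eq a ha with e | e <;> rw [e]
  · rw [one_pow]
  · rw [pow_two, D.zz]

theorem Elt.setting (h2A : ∀ U : Subgroup S.A, U.Normal → IsPGroup 2 U → U = ⊥) (B : Subgroup G) (hB : B = zpowers b)
    [hn : (B.subgroupOf (centralizer (B : Set G))).Normal] :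
    ∃ (zb : ↥(centralizer (B : Set G)) ⧸ B.subgroupOf (centralizer (B : Set G)))
      (Rb : Subgroup ↥(centralizer ({zb} : Set (↥(centralizer (B : Set G)) ⧸ B.subgroupOf (centralizer (B : Set G))))))
      (_ : Rb.Normal),
      Cfsg.IsExtraspecialCentralizerSetting zb Rb 4 ∧ Nonempty
        (↥(centralizer ({zb} : Set (↥(centralizer (B : Set G)) ⧸ B.subgroupOf (centralizer (B : Set G))))) ⧸ Rb ≃* S.A) := by
  subst hB
  classical
  haveI : Fact (Nat.Prime 2) := ⟨Nat.prime_two⟩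
  set M := centralizer (zpowers b : Set G) with hM
  set N := (zpowers b).subgroupOf M with hN
  let pr : ↥M →* ↥M ⧸ N := QuotientGroup.mk' N
  have hzM : z ∈ M := mem_cent_zpowers.2 E.bz.symm
  let zb : ↥M ⧸ N := pr ⟨z, hzM⟩
  have hone : ∀ m : ↥M, pr m = 1 ↔ (m : G) ∈ zpowers b := fun m => QuotientGroup.eq_one_iff m
  have hB7 : ∀ x ∈ zpowers b, x ^ S.p = 1 := fun x hx => by
    obtain ⟨i, rfl⟩ := mem_zpowers_iff.1 hx
    rw [← zpow_natCast, ← zpow_mul, mul_comm, zpow_mul, zpow_natCast, E.powp, one_zpow]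
  -- two elements of order dividing four commuting with `b` and congruent are equal
  have hsame : ∀ a c : ↥M, (a : G) ^ 4 = 1 → (c : G) ^ 4 = 1 → pr a = pr c → a = c := by
    intro a c ha hc e
    have hd : (c : G)⁻¹ * a ∈ zpowers b :=
      (hone (c⁻¹ * a)).1 (by rw [map_mul, map_inv, e, inv_mul_cancel])
    obtain ⟨i, hi⟩ := mem_zpowers_iff.1 hd
    have hcb : Commute (c : G) b := mem_cent_zpowers.1 c.2
    have ea : (a : G) = c * b ^ i := by rw [hi, mul_inv_cancel_left]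
    have h4 : (b ^ i) ^ 4 = 1 := by rw [ea, (hcb.zpow_right i).mul_pow, hc, one_mul] at ha; exact ha
    exact Subtype.ext (by rw [ea, eq_one_of_four S.ok.odd (hB7 _ (zpow_mem (mem_zpowers b) i)) h4, mul_one])
  have hz4 : z ^ 4 = 1 := E.pow_four D.core.mem
  have hzb : orderOf zb = 2 := by
    refine orderOf_eq_prime ?_ fun h => ?_
    · rw [← map_pow, ← map_one pr]
      exact congrArg pr (Subtype.ext (by rw [coe_pow, pow_two]; exact D.zz))
    · exact D.z_ne (congrArg Subtype.val (hsame ⟨z, hzM⟩ 1 hz4 (by simp) (h.trans (map_one pr).symm)))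
  -- the joint centralizer
  have hDM : ∀ c : ↥(D0 z b), (c : G) ∈ M := fun c => mem_cent_zpowers.2 (mem_centralizer_singleton_iff.1 c.2.2)
  let f : ↥(D0 z b) →* ↥(centralizer ({zb} : Set (↥M ⧸ N))) :=
    (pr.comp (Subgroup.inclusion (fun c hc => hDM ⟨c, hc⟩ : D0 z b ≤ M))).codRestrict _ fun c =>
      mem_centralizer_singleton_iff.2 (by
        show pr ⟨c, hDM c⟩ * pr ⟨z, hzM⟩ = pr ⟨z, hzM⟩ * pr ⟨c, hDM c⟩
        rw [← map_mul, ← map_mul]
        exact congrArg pr (Subtype.ext (mem_centralizer_singleton_iff.1 c.2.1)))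
  have hfval : ∀ c : ↥(D0 z b), (f c : ↥M ⧸ N) = pr ⟨c, hDM c⟩ := fun c => rfl
  have hf : Function.Surjective f := by
    rintro ⟨m, hm⟩
    obtain ⟨c, rfl⟩ := QuotientGroup.mk'_surjective N m
    have e : pr c * zb = zb * pr c := mem_centralizer_singleton_iff.1 hm
    have h4 : ((c : G) * z * (c : G)⁻¹) ^ 4 = 1 := by rw [conj_pow, hz4, mul_one, mul_inv_cancel]
    have h1 := hsame (c * ⟨z, hzM⟩ * c⁻¹) ⟨z, hzM⟩ h4 hz4 (by
      rw [map_mul, map_mul, map_inv]; exact mul_inv_eq_iff_eq_mul.2 e)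
    refine ⟨⟨c, mem_centralizer_singleton_iff.2 (mul_inv_eq_iff_eq_mul.1 (congrArg Subtype.val h1)),
      mem_centralizer_singleton_iff.2 (mem_cent_zpowers.1 c.2)⟩, rfl⟩
  have hfker : f.ker ≤ E.phi.ker := by
    intro c hc
    have h1 : pr ⟨c, hDM c⟩ = 1 := congrArg Subtype.val (MonoidHom.mem_ker.1 hc)
    obtain ⟨i, hi⟩ := mem_zpowers_iff.1 ((hone _).1 h1)
    refine MonoidHom.mem_ker.2 ((E.phi_eq_one_iff c).2 ⟨1, one_mem _, (i % (S.p : ℤ)).toNat, ?_⟩)
    have hp0 : (S.p : ℤ) ≠ 0 := Nat.cast_ne_zero.2 S.ok.prime.ne_zero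
    rw [one_mul, ← zpow_natCast, Int.toNat_of_nonneg (Int.emod_nonneg _ hp0),
      show (S.p : ℤ) = ((orderOf b : ℕ) : ℤ) by rw [E.ord], zpow_mod_orderOf]
    exact hi.symm
  let ψ : ↥(centralizer ({zb} : Set (↥M ⧸ N))) →* S.A :=
    f.liftOfSurjective hf ⟨E.phi, hfker⟩
  have hψ : ∀ c, ψ (f c) = E.phi c := fun c =>
    f.liftOfRightInverse_comp_apply _ (Function.rightInverse_surjInv hf) ⟨E.phi, hfker⟩ c
  have hψs : Function.Surjective ψ := fun A => by
    obtain ⟨c, rfl⟩ := E.phi_surjective A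
    exact ⟨f c, hψ c⟩
  -- the fixed points
  have hfixD : ∀ q ∈ fixed Q b, q ∈ D0 z b := fun q hq => ⟨D.core.le hq.1, hq.2⟩
  have hker : ∀ x, x ∈ ψ.ker ↔ ∃ c : ↥(D0 z b), (c : G) ∈ Q ∧ f c = x := by
    intro x
    obtain ⟨c, rfl⟩ := hf x
    rw [MonoidHom.mem_ker, hψ]
    constructor
    · intro h
      obtain ⟨q, hq, k, e⟩ := (E.phi_eq_one_iff c).1 h
      refine ⟨⟨q, hfixD q hq⟩, hq.1, Subtype.ext ?_⟩
      rw [hfval, hfval]
      refine QuotientGroup.eq.2 (mem_subgroupOf.2 ?_)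
      show q⁻¹ * (c : G) ∈ zpowers b
      rw [e, inv_mul_cancel_left]
      exact pow_mem (mem_zpowers b) k
    · rintro ⟨d, hd, e⟩
      rw [← hψ, ← e, hψ]
      exact (E.phi_eq_one_iff d).2 ⟨d, ⟨hd, d.2.2⟩, 0, by simp⟩
  set Rb := ψ.ker with hRb
  have hinj : ∀ c d : ↥(D0 z b), (c : G) ∈ Q → (d : G) ∈ Q → f c = f d → c = d := fun c d hc hd e => by
    have := hsame ⟨c, hDM c⟩ ⟨d, hDM d⟩ (E.pow_four hc) (E.pow_four hd) (congrArg Subtype.val e)
    exact Subtype.ext (congrArg (fun m : ↥M => (m : G)) this)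
  have hcard : Nat.card Rb = 512 := by
    rw [← E.card_fixed]
    refine (Nat.card_congr (Equiv.ofBijective
      (fun q : fixed Q b => (⟨f ⟨q, hfixD q q.2⟩, (hker _).2 ⟨_, q.2.1, rfl⟩⟩ : Rb)) ⟨?_, ?_⟩)).symm
    · intro p q e
      exact Subtype.ext (congrArg (fun c : ↥(D0 z b) => (c : G)) (hinj _ _ p.2.1 q.2.1 (congrArg Subtype.val e)))
    · rintro ⟨x, hx⟩
      obtain ⟨c, hc, rfl⟩ := (hker x).1 hx
      exact ⟨⟨c, hc, c.2.2⟩, rfl⟩
  have h2 : IsPGroup 2 Rb := IsPGroup.of_card (n := 9) hcard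
  -- the centre
  let zz : ↥(centralizer ({zb} : Set (↥M ⧸ N))) := ⟨zb, mem_centralizer_singleton_iff.2 rfl⟩
  have hzf : f ⟨z, hfixD z E.z_fixed⟩ = zz := rfl
  have hzcases : ∀ c : ↥(D0 z b), ((c : G) = 1 ∨ (c : G) = z) → f c ∈ zpowers zz := by
    rintro c (h | h)
    · rw [show c = 1 from Subtype.ext h, map_one]; exact one_mem _
    · rw [show c = ⟨z, hfixD z E.z_fixed⟩ from Subtype.ext h, hzf]; exact mem_zpowers _
  have hcomm : ∀ c d : ↥(D0 z b), (c : G) ∈ Q → (d : G) ∈ Q → f c * f d = f d * f c →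
      (c : G) * d = d * c := fun c d hc hd e => by
    rw [← map_mul, ← map_mul] at e
    exact congrArg Subtype.val (hinj (c * d) (d * c) (Q.mul_mem hc hd) (Q.mul_mem hd hc) e)
  have hcen : ∀ c : ↥(D0 z b), (c : G) ∈ Q → (∀ e ∈ Rb, e * f c = f c * e) → f c ∈ zpowers zz := fun c hc h => by
    refine hzcases c (E.fixed_center ⟨hc, c.2.2⟩ fun r hr => ?_)
    exact hcomm ⟨r, hfixD r hr⟩ c hr.1 hc (h _ ((hker _).2 ⟨_, hr.1, rfl⟩))
  have hext : Cfsg.IsExtraspecial 2 Rb := by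
    refine CfsgLib.SympPairs.isExtraspecial_of_data (z := zz) Rb h2 ⟨?_, ?_, ?_, ?_, ?_⟩ ?_ ?_ ?_
    · exact Subtype.ext (by rw [coe_pow, ← hzb]; exact pow_orderOf_eq_one zb)
    · intro h
      have : zb = 1 := congrArg Subtype.val h
      rw [this, orderOf_one] at hzb; omega
    · exact (hker _).2 ⟨_, D.core.mem, hzf⟩
    · exact fun g => Subtype.ext (mem_centralizer_singleton_iff.1 g.2)
    · intro x hx y hy
      obtain ⟨c, hc, rfl⟩ := (hker x).1 hx
      obtain ⟨d, hd, rfl⟩ := (hker y).1 hy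
      rw [← map_commutatorElement f]
      refine hzcases _ ?_
      rw [commutatorElement_def]
      exact D.core.comm_eq c hc d hd
    · intro x hx
      obtain ⟨c, hc, rfl⟩ := (hker x).1 hx
      rw [← map_pow]
      refine hzcases _ ?_
      rw [coe_pow, pow_two]
      exact D.core.sq_eq c hc
    · intro x hx h
      obtain ⟨c, hc, rfl⟩ := (hker x).1 hx
      exact hcen c hc fun e he => mem_centralizer_iff.1 h e he
    · by_contra h
      push Not at h
      obtain ⟨q, hq, hqz, c, hc, hcq⟩ := E.exists_conj_fixed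
      have hq1 : q ≠ 1 := fun e => D.z_ne (conj_eq_one_iff.1 (hcq.trans e))
      refine (E.fixed_center hq fun r hr => ?_).elim hq1 hqz
      exact hcomm ⟨r, hfixD r hr⟩ ⟨_, hfixD _ hq⟩ hr.1 hq.1 (commutatorElement_eq_one_iff_mul_comm.1
        (h _ ((hker _).2 ⟨_, hr.1, rfl⟩) _ ((hker _).2 ⟨_, hq.1, rfl⟩)))
  have hC : centralizer (Rb : Set ↥(centralizer ({zb} : Set (↥M ⧸ N)))) ≤ Rb := by
    intro x hx
    obtain ⟨c, rfl⟩ := hf x
    rw [hRb, MonoidHom.mem_ker, hψ]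
    refine E.phi_of_centralizes c fun r hr => ?_
    have e := mem_centralizer_iff.1 hx _ ((hker _).2 ⟨⟨r, hfixD r hr⟩, hr.1, rfl⟩)
    rw [← map_mul, ← map_mul] at e
    have hcq : (c : G) * r * (c : G)⁻¹ ∈ Q := D.core.norm c (mem_centralizer_singleton_iff.1 c.2.1) r hr.1
    have hs := hinj (c * ⟨r, hfixD r hr⟩ * c⁻¹) ⟨r, hfixD r hr⟩ hcq hr.1 (by
      rw [map_mul, ← e, map_mul, map_inv, mul_inv_cancel_right])
    exact (mul_inv_eq_iff_eq_mul.1 (congrArg Subtype.val hs)).symm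
  have hmax : ∀ U : Subgroup ↥(centralizer ({zb} : Set (↥M ⧸ N))), U.Normal → IsPGroup 2 U → U ≤ Rb := by
    intro U hU hU2
    haveI : (U.map ψ).Normal := hU.map ψ hψs
    have := h2A (U.map ψ) inferInstance (hU2.map ψ)
    exact (map_eq_bot_iff U).1 this
  refine ⟨zb, Rb, inferInstance, ⟨hzb, Fi22Model.generalizedFitting_eq_of_selfCentralizing Rb h2 hC hmax, hext,
    hcard, ?_⟩, ⟨QuotientGroup.quotientKerEquivOfSurjective ψ hψs⟩⟩
  obtain ⟨q, hqf, hne, c, hcb, hc⟩ := E.exists_conj_fixed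
  let cm : ↥M := ⟨c, mem_cent_zpowers.2 hcb⟩
  have he : pr cm * zb * (pr cm)⁻¹ = (f ⟨_, hfixD _ hqf⟩ : ↥M ⧸ N) := by
    rw [hfval, ← map_inv, ← map_mul, ← map_mul]
    exact congrArg pr (Subtype.ext hc)
  refine ⟨pr cm, ⟨?_, ?_⟩, fun h => ?_⟩
  · rw [he]; exact (f _).2
  · exact (hker _).2 ⟨⟨_, hfixD _ hqf⟩, hqf.1, Subtype.ext he.symm⟩
  · have := hinj ⟨_, hfixD _ hqf⟩ ⟨z, hfixD z E.z_fixed⟩ hqf.1 D.core.mem
      (Subtype.ext (he.symm.trans h))
    exact hne (congrArg Subtype.val this)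

end

end CfsgLib.Spor.MonsterType.Fix
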