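import Cfsg.Agent.Lib.Spor.MonsterType.Fix.Elt
import Cfsg.Agent.Lib.Spor.MonsterType.Cross

/-!
# Bringing an element of odd prime order into standard position
-/

set_option autoImplicit false

namespace CfsgLib.Spor.MonsterType.Fix

open Subgroup CfsgLib.Spor CfsgLib.Spor.Leech
open Cfsg (leechLattice Co0 sqNorm GolayPt M24)

noncomputable section

/-- The standard element inside the stabiliser of the standard cross. -/
def crossP (T : Tab) : crossStab := prm ⟨T.sigma, T.sigma_mem⟩

theorem crossP_coe (T : Tab) : ((crossP T : crossStab) : Co0) = T.P := rfl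

/-- The permutation of an element of the cross stabiliser. -/
def permPart (x : crossStab) : M24 := (split x).choose_spec.2.choose

theorem permPart_spec (x : crossStab) : ∃ n ∈ signs, x = n * prm (permPart x) :=
  ⟨(split x).choose, (split x).choose_spec.1, (split x).choose_spec.2.choose_spec⟩

theorem permPart_eq {x n : crossStab} (hn : n ∈ signs) {σ : M24} (h : x = n * prm σ) : permPart x = σ := by
  obtain ⟨m, hm, e⟩ := permPart_spec x
  have h' : prm (σ * (permPart x)⁻¹) = n⁻¹ * m := by
    rw [map_mul, map_inv, eq_inv_mul_iff_mul_eq, ← mul_assoc, mul_inv_eq_iff_eq_mul, ← h, ← e]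
  exact (mul_inv_eq_one.1 (prm_mem_signs (h' ▸ mul_mem (inv_mem hn) hm))).symm

/-- The projection of the cross stabiliser onto the Mathieu group. -/
def permHom : crossStab →* M24 :=
  MonoidHom.mk' permPart fun x y => by
    obtain ⟨n, hn, ex⟩ := permPart_spec x
    obtain ⟨m, hm, ey⟩ := permPart_spec y
    refine permPart_eq (n := n * (prm (permPart x) * m * (prm (permPart x))⁻¹))
      (mul_mem hn (signs_normal.conj_mem _ hm _)) ?_
    conv_lhs => rw [ex, ey]
    rw [map_mul]
    group

theorem permHom_prm (σ : M24) : permHom (prm σ) = σ := permPart_eq (one_mem _) (one_mul _).symm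

theorem permHom_ker {x : crossStab} : permHom x = 1 ↔ x ∈ signs := by
  constructor
  · intro h
    obtain ⟨n, hn, e⟩ := permPart_spec x
    rw [show permPart x = 1 from h, map_one, mul_one] at e
    exact e ▸ hn
  · exact fun h => permPart_eq h (by rw [map_one, mul_one])

theorem permHom_surjective : Function.Surjective permHom := fun σ => ⟨prm σ, permHom_prm σ⟩

/-- An element of odd order over a permutation is a conjugate of that permutation. -/
theorem exists_sign_conj {p : ℕ} (hp : p.Prime) (hodd : p % 2 = 1) {y : crossStab} (hy : y ^ p = 1) {σ : M24}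
    (hσ : permHom y = σ) : ∃ k : crossStab, k * y * k⁻¹ = prm σ := by
  classical
  haveI : Fact p.Prime := ⟨hp⟩
  haveI : Finite crossStab := Nat.finite_of_card_ne_zero (by rw [card_crossStab]; norm_num)
  haveI : Fintype signs := Fintype.ofFinite _
  obtain ⟨n, hn, e⟩ := permPart_spec y
  rw [show permPart y = σ from hσ] at e
  have hσp : σ ^ p = 1 := by rw [← hσ, ← map_pow, hy, map_one]
  let f : signs → signs := fun x => ⟨y * x * (prm σ)⁻¹, by
    rw [e, show n * prm σ * (x : crossStab) * (prm σ)⁻¹ = n * (prm σ * x * (prm σ)⁻¹) by group]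
    exact mul_mem hn (signs_normal.conj_mem _ x.2 _)⟩
  have hf : ∀ (k : ℕ) (x : signs), ((f^[k] x : signs) : crossStab) = y ^ k * x * (prm σ ^ k)⁻¹ := by
    intro k
    induction k with
    | zero => intro x; simp
    | succ k ih =>
      intro x
      rw [Function.iterate_succ_apply']
      show y * (f^[k] x : crossStab) * (prm σ)⁻¹ = _
      rw [ih, pow_succ', pow_succ']
      group
  let g : Function.End signs := f
  have he : g ^ p ^ 1 = 1 := funext fun x => Subtype.ext (by
    rw [pow_one, show (g ^ p : Function.End signs) = f^[p] from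
      hom_coe_pow (fun g : Function.End signs => (g : signs → signs)) rfl (fun _ _ => rfl) g p, hf, hy, ← map_pow,
      hσp, map_one]
    show 1 * (x : crossStab) * 1⁻¹ = x
    simp)
  have hmod := Equiv.Perm.card_fixedPoints_modEq (p := p) he
  have hpos : 0 < Fintype.card (Function.fixedPoints g) := by
    by_contra h0
    have h7 : p ∣ 2 ^ 12 := by
      rw [show (2 : ℕ) ^ 12 = Fintype.card signs by rw [← Nat.card_eq_fintype_card, card_signs]; norm_num]
      exact (Nat.modEq_zero_iff_dvd).1 (by simpa [Nat.eq_zero_of_not_pos h0] using hmod)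
    have := (Nat.prime_dvd_prime_iff_eq hp Nat.prime_two).1 (hp.dvd_of_dvd_pow h7)
    omega
  obtain ⟨⟨x, hx⟩⟩ := Fintype.card_pos_iff.1 hpos
  have hx' : y * (x : crossStab) * (prm σ)⁻¹ = x := congrArg Subtype.val (show f x = x from hx)
  refine ⟨(x : crossStab)⁻¹, ?_⟩
  rw [inv_inv, mul_assoc, inv_mul_eq_iff_eq_mul]
  exact mul_inv_eq_iff_eq_mul.1 hx'

variable {G : Type*} [Group G] [Finite G] {z : G} {Q : Subgroup G} {R : leechLattice → G → Prop}
  {π : ↥(centralizer ({z} : Set G)) →* Cfsg.Spor.Co1}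

/-- A preimage of the same order in the cross stabiliser. -/
theorem exists_cross_elt (D : Data z Q R π) {p : ℕ} (hp : p.Prime) (hodd : p % 2 = 1) (h : Co0)
    (c : ↥(centralizer ({z} : Set G))) (hc : orderOf (c : G) = p) (hcr : π c ∈ (crossMap h).range) :
    ∃ y : crossStab, y ^ p = 1 ∧ y ≠ 1 ∧ crossMap h y = π c := by
  haveI : Fact p.Prime := ⟨hp⟩
  obtain ⟨x, hx⟩ := hcr
  have hcp : c ^ p = 1 := Subtype.ext (by
    show (c : G) ^ p = 1
    rw [← hc, pow_orderOf_eq_one])
  have hxc : (x : Co0) ^ p ∈ center Co0 := by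
    have h7 : crossMap h (x ^ p) = 1 := by rw [map_pow, hx, ← map_pow, hcp, map_one]
    rw [crossMap_apply, QuotientGroup.eq_one_iff] at h7
    have := Subgroup.Normal.conj_mem inferInstance _ h7 h
    simpa [mul_assoc] using this
  have hsgn : negAut ∈ crossStab := monoAut_preserves M24.one_mem Cfsg.Spor.univ_mem_supports_golayCode
  have hneg : crossMap h ⟨negAut, hsgn⟩ = 1 := by
    rw [crossMap_apply, QuotientGroup.eq_one_iff]
    exact Subgroup.Normal.conj_mem' inferInstance _ negAut_central h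
  obtain ⟨y, hyp, hy⟩ : ∃ y : crossStab, y ^ p = 1 ∧ crossMap h y = π c := by
    rcases mem_center_iff_eq.1 hxc with e | e
    · exact ⟨x, Subtype.ext (by rw [coe_pow, e]; rfl), hx⟩
    · refine ⟨x * ⟨negAut, hsgn⟩, Subtype.ext ?_, by rw [map_mul, hneg, mul_one, hx]⟩
      have h2 : negAut * negAut = 1 := Blocked.negAut_sq
      obtain ⟨k, rfl⟩ : ∃ k, p = 2 * k + 1 := ⟨p / 2, by omega⟩
      rw [coe_pow, coe_mul, (show Commute (x : Co0) negAut from mem_center_iff.1 negAut_central _).mul_pow, e,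
        pow_succ negAut, pow_mul, pow_two, h2, one_pow, one_mul, h2]
      rfl
  refine ⟨y, hyp, fun e => ?_, hy⟩
  rw [e, map_one] at hy
  have hQ := (D.kerπ c).1 hy.symm
  obtain ⟨n, hn⟩ := D.half.two ⟨_, hQ⟩
  have h2 : orderOf (c : G) ∣ 2 ^ n := orderOf_dvd_of_pow_eq_one (congrArg Subtype.val hn)
  rw [hc] at h2
  have := (Nat.prime_dvd_prime_iff_eq hp Nat.prime_two).1 (hp.dvd_of_dvd_pow h2)
  omega

/-- Standard position from a conjugation into the standard subgroup. -/
theorem standard_of_conj (S : Blocked) (D : Data z Q R π) (hw : ∃ g : G, g * z * g⁻¹ ∈ Q ∧ g * z * g⁻¹ ≠ z)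
    (c : ↥(centralizer ({z} : Set G))) (hc : orderOf (c : G) = S.p) {h : Co0} {y : crossStab}
    (hy : crossMap h y = π c) {k : Co0} {i : ℕ} (hki : k * (y : Co0) * k⁻¹ = S.P ^ i) (hi : i.Coprime S.p) :
    ∃ (R' : leechLattice → G → Prop) (π' : ↥(centralizer ({z} : Set G)) →* Cfsg.Spor.Co1)
      (D' : Data z Q R' π') (b : G), zpowers (c : G) = zpowers b ∧ Elt S D' b := by
  obtain ⟨j, -, hj⟩ := Nat.exists_mul_mod_eq_one_of_coprime hi S.ok.prime.one_lt
  have hgen : zpowers ((c : G) ^ j) = zpowers (c : G) := by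
    refine le_antisymm (zpowers_le.2 (pow_mem (mem_zpowers _) j)) (zpowers_le.2 ⟨(i : ℤ), ?_⟩)
    show ((c : G) ^ j) ^ (i : ℤ) = _
    rw [zpow_natCast, ← pow_mul, mul_comm, ← pow_mod_orderOf, hc, hj, pow_one]
  refine ⟨_, _, D.twist (k * h), (c : G) ^ j, hgen.symm, ⟨pow_mem c.2 j, ?_, ?_, hw⟩⟩
  · rw [← Nat.card_zpowers, hgen, Nat.card_zpowers, hc]
  · show (QuotientGroup.mk (k * h) : Cfsg.Spor.Co1) * π _ * (QuotientGroup.mk (k * h) : Cfsg.Spor.Co1)⁻¹ = _
    have e : π ⟨(c : G) ^ j, pow_mem c.2 j⟩ = crossMap h (y ^ j) := by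
      rw [map_pow, hy, ← map_pow]; rfl
    rw [e, crossMap_apply, ← QuotientGroup.mk_inv, ← QuotientGroup.mk_mul, ← QuotientGroup.mk_mul]
    refine congrArg _ ?_
    rw [show k * h * (h⁻¹ * ((y ^ j : crossStab) : Co0) * h) * (k * h)⁻¹ = k * ((y ^ j : crossStab) : Co0) * k⁻¹ by
      group, coe_pow, ← conj_pow, hki, ← pow_mul]
    conv_lhs => rw [← Nat.mod_add_div (i * j) S.p, hj, pow_add, pow_mul, S.P_pow, one_pow, mul_one, pow_one]

end

end CfsgLib.Spor.MonsterType.Fix
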