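import Cfsg.Agent.Lib.Spor.MonsterType.Fix.Groups

/-!
# Membership of a word in the closure of the images of numbered generators
-/

set_option autoImplicit false

namespace CfsgLib.Spor.MonsterType.Fix

theorem prod_mem_closure {ι : Type*} {M : Type*} [Group M] (idx : ι → ℕ) (f : ℕ → M) (w : List ℕ)
    (h : ∀ i ∈ w, ∃ o, idx o = i) : (w.map f).prod ∈ Subgroup.closure (Set.range fun o => f (idx o)) := by
  refine list_prod_mem fun x hx => ?_
  obtain ⟨i, hi, rfl⟩ := List.mem_map.1 hx
  obtain ⟨o, rfl⟩ := h i hi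
  exact Subgroup.subset_closure ⟨o, rfl⟩

end CfsgLib.Spor.MonsterType.Fix
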